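import Cfsg.Agent.Leech.Code
set_option linter.all false

/-!
The Leech lattice: `leechSet` is a subgroup; dual description; divisibility of inner products and
norms; minimal norm 32; constructor for elements of `Co0`.
-/

set_option autoImplicit false

namespace Cfsg.Agent.Leech.Basic

open Cfsg Cfsg.Agent.Leech.Code

/-- Dual description of the vectors of `leechSet` of parity `m`. -/
structure IsLeech (m : ℤ) (x : GolayPt → ℤ) : Prop where
  par : ∀ i, x i ≡ m [ZMOD 2]
  sum : ∑ i, x i ≡ 4 * m [ZMOD 8]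
  code : ∀ c ∈ Words, ∑ i ∈ c, x i ≡ 0 [ZMOD 4]

/-- Positions where `x` is congruent to `k` modulo 4. -/
def cls (x : GolayPt → ℤ) (k : ℤ) : Finset GolayPt := Finset.univ.filter fun i => x i ≡ k [ZMOD 4]

theorem mem_cls (x : GolayPt → ℤ) (k : ℤ) (i : GolayPt) : i ∈ cls x k ↔ x i ≡ k [ZMOD 4] := by
  simp [cls]

/-- If all coordinates are congruent to `m` modulo 2, then every coordinate is
`m + 2 * [x i ≢ m mod 4] + 4 * a i`. -/
theorem exists_decomp {m : ℤ} {x : GolayPt → ℤ} (hpar : ∀ i, x i ≡ m [ZMOD 2]) :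
    ∃ a : GolayPt → ℤ, ∀ i, x i = m + 2 * (if i ∈ cls x m then 0 else 1) + 4 * a i := by
  refine ⟨fun i => (x i - m - 2 * (if i ∈ cls x m then 0 else 1)) / 4, fun i => ?_⟩
  have h := hpar i
  have h4 := mem_cls x m i
  unfold Int.ModEq at h h4
  by_cases hi : i ∈ cls x m
  · have := h4.1 hi
    simp only [hi, if_true]
    omega
  · have h5 : ¬ (x i % 4 = m % 4) := fun hh => hi (h4.2 hh)
    simp only [hi, if_false]
    omega

theorem sum_on_eq {m : ℤ} {x a : GolayPt → ℤ}
    (ha : ∀ i, x i = m + 2 * (if i ∈ cls x m then 0 else 1) + 4 * a i) (c : Finset GolayPt) :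
    ∑ i ∈ c, x i = m * c.card + 2 * ((c.card : ℤ) - (c ∩ cls x m).card) + 4 * ∑ i ∈ c, a i := by
  have h1 : ∑ i ∈ c, x i = ∑ i ∈ c, (m + 2 * (if i ∈ cls x m then 0 else 1) + 4 * a i) :=
    Finset.sum_congr rfl fun i _ => ha i
  have h2 : ∑ i ∈ c, (if i ∈ cls x m then (0 : ℤ) else 1) = (c.card : ℤ) - (c ∩ cls x m).card := by
    have h3 : ∑ i ∈ c, (if i ∈ cls x m then (0 : ℤ) else 1) =
        ∑ i ∈ c, ((1 : ℤ) - (if i ∈ cls x m then 1 else 0)) :=
      Finset.sum_congr rfl fun i _ => by split_ifs <;> ring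
    rw [h3, Finset.sum_sub_distrib, Finset.sum_ite_mem]
    simp
  rw [h1, Finset.sum_add_distrib, Finset.sum_add_distrib, ← Finset.mul_sum, ← Finset.mul_sum, h2]
  simp
  ring

theorem isLeech_of_cls {m : ℤ} {x : GolayPt → ℤ} (hpar : ∀ i, x i ≡ m [ZMOD 2])
    (hsum : ∑ i, x i ≡ 4 * m [ZMOD 8]) (hc : cls x m ∈ Words) : IsLeech m x := by
  refine ⟨hpar, hsum, fun c hcw => ?_⟩
  obtain ⟨a, ha⟩ := exists_decomp hpar
  rw [sum_on_eq ha c]
  have h4 := four_dvd_card hcw
  have h2 := even_inter hcw hc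
  obtain ⟨k, hk⟩ := h4
  obtain ⟨l, hl⟩ := h2
  rw [hk, hl]
  apply (Int.modEq_zero_iff_dvd).2
  refine ⟨m * k + 2 * k - l + ∑ i ∈ c, a i, ?_⟩
  push_cast
  ring

theorem cls_mem_of_isLeech {m : ℤ} {x : GolayPt → ℤ} (h : IsLeech m x) : cls x m ∈ Words := by
  obtain ⟨a, ha⟩ := exists_decomp h.par
  refine mem_of_even_inter fun d hd => ?_
  have h1 := h.code d hd
  rw [sum_on_eq ha d] at h1
  obtain ⟨k, hk⟩ := four_dvd_card hd
  rw [hk] at h1
  rw [Finset.inter_comm]
  have h2 := (Int.modEq_zero_iff_dvd).1 h1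
  obtain ⟨r, hr⟩ := h2
  have : ((d ∩ cls x m).card : ℤ) = 2 * (m * k + 2 * k + ∑ i ∈ d, a i - r) + (d ∩ cls x m).card * 0 := by
    push_cast at hr
    linarith
  rw [← Int.even_coe_nat, this]
  exact ⟨(m * k + 2 * k + ∑ i ∈ d, a i - r), by ring⟩

theorem cls_congr {x : GolayPt → ℤ} {k l : ℤ} (h : k ≡ l [ZMOD 4]) : cls x k = cls x l := by
  ext i
  rw [mem_cls, mem_cls]
  exact ⟨fun hh => hh.trans h, fun hh => hh.trans h.symm⟩

theorem cls_add_two {m : ℤ} {x : GolayPt → ℤ} (hpar : ∀ i, x i ≡ m [ZMOD 2]) :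
    cls x (m + 2) = (cls x m)ᶜ := by
  ext i
  rw [Finset.mem_compl, mem_cls, mem_cls]
  have := hpar i
  unfold Int.ModEq at *
  omega

theorem cls_eq_empty {m k : ℤ} {x : GolayPt → ℤ} (hpar : ∀ i, x i ≡ m [ZMOD 2])
    (hk : ¬ k ≡ m [ZMOD 2]) : cls x k = ∅ := by
  ext i
  rw [mem_cls]
  have := hpar i
  unfold Int.ModEq at *
  simp only [Finset.notMem_empty, iff_false]
  omega

theorem mem_leechSet_iff_isLeech (x : GolayPt → ℤ) : x ∈ leechSet ↔ ∃ m : ℤ, IsLeech m x := by
  constructor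
  · rintro ⟨m, hpar, hsum, hk⟩
    exact ⟨m, isLeech_of_cls hpar hsum (hk m)⟩
  · rintro ⟨m, h⟩
    refine ⟨m, h.par, h.sum, fun k => ?_⟩
    change cls x k ∈ Words
    have hA := cls_mem_of_isLeech h
    by_cases h2 : k ≡ m [ZMOD 2]
    · by_cases h4 : k ≡ m [ZMOD 4]
      · rw [cls_congr h4]; exact hA
      · have : k ≡ m + 2 [ZMOD 4] := by
          unfold Int.ModEq at *; omega
        rw [cls_congr this, cls_add_two h.par]
        exact compl_mem hA
    · rw [cls_eq_empty h.par h2]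
      exact empty_mem

theorem IsLeech.zero : IsLeech 0 0 :=
  ⟨fun i => by simp, by simp, fun c _ => by simp⟩

theorem IsLeech.add {m n : ℤ} {x y : GolayPt → ℤ} (hx : IsLeech m x) (hy : IsLeech n y) :
    IsLeech (m + n) (x + y) := by
  refine ⟨fun i => (hx.par i).add (hy.par i), ?_, fun c hc => ?_⟩
  · have := hx.sum.add hy.sum
    simp only [Pi.add_apply, Finset.sum_add_distrib]
    rw [mul_add]
    exact this
  · have := (hx.code c hc).add (hy.code c hc)
    simp only [Pi.add_apply, Finset.sum_add_distrib]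
    simpa using this

theorem IsLeech.neg {m : ℤ} {x : GolayPt → ℤ} (hx : IsLeech m x) : IsLeech (-m) (-x) := by
  refine ⟨fun i => (hx.par i).neg, ?_, fun c hc => ?_⟩
  · have := hx.sum.neg
    simp only [Pi.neg_apply, Finset.sum_neg_distrib]
    rw [mul_neg]
    exact this
  · have := (hx.code c hc).neg
    simp only [Pi.neg_apply, Finset.sum_neg_distrib]
    simpa using this

/-- `leechSet` is already a subgroup. -/
def leechSub : AddSubgroup (GolayPt → ℤ) where
  carrier := leechSet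
  zero_mem' := (mem_leechSet_iff_isLeech 0).2 ⟨0, IsLeech.zero⟩
  add_mem' := by
    intro x y hx hy
    obtain ⟨m, hm⟩ := (mem_leechSet_iff_isLeech x).1 hx
    obtain ⟨n, hn⟩ := (mem_leechSet_iff_isLeech y).1 hy
    exact (mem_leechSet_iff_isLeech _).2 ⟨_, hm.add hn⟩
  neg_mem' := by
    intro x hx
    obtain ⟨m, hm⟩ := (mem_leechSet_iff_isLeech x).1 hx
    exact (mem_leechSet_iff_isLeech _).2 ⟨_, hm.neg⟩

theorem leechLattice_eq : leechLattice = leechSub :=
  le_antisymm ((AddSubgroup.closure_le leechSub).2 (fun _ hx => hx)) AddSubgroup.subset_closure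

theorem mem_leech_iff (x : GolayPt → ℤ) : x ∈ leechLattice ↔ x ∈ leechSet := by
  rw [leechLattice_eq]; rfl

theorem mem_leech_iff_isLeech (x : GolayPt → ℤ) : x ∈ leechLattice ↔ ∃ m : ℤ, IsLeech m x := by
  rw [mem_leech_iff, mem_leechSet_iff_isLeech]

theorem mem_leech_iff_dual (x : GolayPt → ℤ) : x ∈ leechLattice ↔
    ∃ m : ℤ, (∀ i, x i ≡ m [ZMOD 2]) ∧ (∑ i, x i ≡ 4 * m [ZMOD 8]) ∧
      ∀ c ∈ supports (golayCode : Set (GolayPt → ZMod 2)), ∑ i ∈ c, x i ≡ 0 [ZMOD 4] := by
  rw [mem_leech_iff_isLeech]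
  exact ⟨fun ⟨m, h⟩ => ⟨m, h.par, h.sum, h.code⟩, fun ⟨m, h1, h2, h3⟩ => ⟨m, h1, h2, h3⟩⟩

/-- The parity may be changed by an even number. -/
theorem IsLeech.congr {m n : ℤ} {x : GolayPt → ℤ} (h : IsLeech m x) (hmn : m ≡ n [ZMOD 2]) :
    IsLeech n x := by
  refine ⟨fun i => (h.par i).trans hmn, h.sum.trans ?_, h.code⟩
  unfold Int.ModEq at *; omega

/-- The parity of a lattice vector can be taken to be 0 or 1. -/
theorem isLeech_zero_or_one {x : GolayPt → ℤ} (hx : x ∈ leechLattice) :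
    IsLeech 0 x ∨ IsLeech 1 x := by
  obtain ⟨m, hm⟩ := (mem_leech_iff_isLeech x).1 hx
  rcases Int.emod_two_eq_zero_or_one m with h | h
  · left; refine hm.congr ?_; unfold Int.ModEq; omega
  · right; refine hm.congr ?_; unfold Int.ModEq; omega

theorem IsLeech.mem {m : ℤ} {x : GolayPt → ℤ} (h : IsLeech m x) : x ∈ leechLattice :=
  (mem_leech_iff_isLeech x).2 ⟨m, h⟩

/-! ### Decomposition of even and odd vectors -/

/-- Integer indicator. -/
def chi (A : Finset GolayPt) (i : GolayPt) : ℤ := if i ∈ A then 1 else 0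

theorem chi_mem {A : Finset GolayPt} {i : GolayPt} (h : i ∈ A) : chi A i = 1 := if_pos h

theorem chi_not_mem {A : Finset GolayPt} {i : GolayPt} (h : i ∉ A) : chi A i = 0 := if_neg h

theorem sum_chi (A : Finset GolayPt) : ∑ i, chi A i = (A.card : ℤ) := by
  simp [chi, Finset.sum_ite_mem]

theorem sum_chi_mul (A : Finset GolayPt) (f : GolayPt → ℤ) : ∑ i, chi A i * f i = ∑ i ∈ A, f i := by
  have : ∀ i, chi A i * f i = if i ∈ A then f i else 0 := by
    intro i; unfold chi; split_ifs <;> ring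
  simp only [this, Finset.sum_ite_mem, Finset.univ_inter]

theorem sum_chi_chi (A B : Finset GolayPt) : ∑ i, chi A i * chi B i = ((A ∩ B).card : ℤ) := by
  have : ∀ i, chi A i * chi B i = chi (A ∩ B) i := by
    intro i; unfold chi; by_cases h1 : i ∈ A <;> by_cases h2 : i ∈ B <;> simp [h1, h2]
  simp only [this, sum_chi]

theorem chi_mul_self (A : Finset GolayPt) (i : GolayPt) : chi A i * chi A i = chi A i := by
  unfold chi; split_ifs <;> ring

/-- `x = m + 2 χ_A + 4 a` with `A` a code word support and `∑ a ≡ m` modulo 2 (`m = 0, 1`). -/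
theorem exists_form {m : ℤ} {x : GolayPt → ℤ} (h : IsLeech m x) (hm : m = 0 ∨ m = 1) :
    ∃ A ∈ Words, ∃ a : GolayPt → ℤ, (∀ i, x i = m + 2 * chi A i + 4 * a i) ∧
      ∑ i, a i ≡ m [ZMOD 2] := by
  obtain ⟨a, ha⟩ := exists_decomp h.par
  have hA := compl_mem (cls_mem_of_isLeech h)
  refine ⟨(cls x m)ᶜ, hA, a, fun i => ?_, ?_⟩
  · rw [ha i]
    unfold chi
    by_cases hi : i ∈ cls x m
    · simp [hi]
    · simp [hi]
  · have hs := h.sum
    have e : ∑ i, x i = ∑ i, (m + 2 * chi (cls x m)ᶜ i + 4 * a i) := by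
      refine Finset.sum_congr rfl fun i _ => ?_
      rw [ha i]
      unfold chi
      by_cases hi : i ∈ cls x m
      · simp [hi]
      · simp [hi]
    rw [e, Finset.sum_add_distrib, Finset.sum_add_distrib, ← Finset.mul_sum, ← Finset.mul_sum,
      sum_chi] at hs
    have hc : (∑ _i : GolayPt, m) = 24 * m := by
      rw [Finset.sum_const, Finset.card_univ, card_golayPt]; simp
    rw [hc] at hs
    obtain ⟨k, hk⟩ := four_dvd_card hA
    rw [hk] at hs
    push_cast at hs
    unfold Int.ModEq at hs ⊢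
    rcases hm with rfl | rfl <;> omega

theorem dotInt_comm (x y : GolayPt → ℤ) : dotInt x y = dotInt y x :=
  Finset.sum_congr rfl fun _ _ => mul_comm _ _

theorem dotInt_add_left (x y z : GolayPt → ℤ) : dotInt (x + y) z = dotInt x z + dotInt y z := by
  unfold dotInt
  rw [← Finset.sum_add_distrib]
  exact Finset.sum_congr rfl fun i _ => by rw [Pi.add_apply]; ring

theorem dotInt_add_right (x y z : GolayPt → ℤ) : dotInt x (y + z) = dotInt x y + dotInt x z := by
  rw [dotInt_comm, dotInt_add_left, dotInt_comm y, dotInt_comm z]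

theorem dotInt_neg_left (x y : GolayPt → ℤ) : dotInt (-x) y = -dotInt x y := by
  unfold dotInt
  rw [← Finset.sum_neg_distrib]
  exact Finset.sum_congr rfl fun i _ => by rw [Pi.neg_apply]; ring

theorem dotInt_neg_right (x y : GolayPt → ℤ) : dotInt x (-y) = -dotInt x y := by
  rw [dotInt_comm, dotInt_neg_left, dotInt_comm]

theorem dotInt_sub_left (x y z : GolayPt → ℤ) : dotInt (x - y) z = dotInt x z - dotInt y z := by
  rw [sub_eq_add_neg, dotInt_add_left, dotInt_neg_left]; ring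

theorem dotInt_sub_right (x y z : GolayPt → ℤ) : dotInt x (y - z) = dotInt x y - dotInt x z := by
  rw [dotInt_comm, dotInt_sub_left, dotInt_comm y, dotInt_comm z]

theorem dotInt_self (x : GolayPt → ℤ) : dotInt x x = sqNorm x :=
  Finset.sum_congr rfl fun i _ => by ring

theorem sqNorm_eq_dotInt (x : GolayPt → ℤ) : sqNorm x = dotInt x x := (dotInt_self x).symm

theorem sqNorm_add (x y : GolayPt → ℤ) : sqNorm (x + y) = sqNorm x + 2 * dotInt x y + sqNorm y := by
  rw [← dotInt_self, ← dotInt_self, ← dotInt_self, dotInt_add_left, dotInt_add_right,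
    dotInt_add_right, dotInt_comm y x]
  ring

theorem sqNorm_sub (x y : GolayPt → ℤ) : sqNorm (x - y) = sqNorm x - 2 * dotInt x y + sqNorm y := by
  rw [← dotInt_self, ← dotInt_self, ← dotInt_self, dotInt_sub_left, dotInt_sub_right,
    dotInt_sub_right, dotInt_comm y x]
  ring

theorem sqNorm_neg (x : GolayPt → ℤ) : sqNorm (-x) = sqNorm x := by
  rw [← dotInt_self, dotInt_neg_left, dotInt_neg_right, dotInt_self, neg_neg]

theorem sqNorm_nonneg (x : GolayPt → ℤ) : 0 ≤ sqNorm x :=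
  Finset.sum_nonneg fun _ _ => sq_nonneg _

/-- The inner product of two vectors in the form of `exists_form`. -/
theorem dot_form {m n : ℤ} {x y a b : GolayPt → ℤ} {A B : Finset GolayPt}
    (hx : ∀ i, x i = m + 2 * chi A i + 4 * a i) (hy : ∀ i, y i = n + 2 * chi B i + 4 * b i) :
    dotInt x y = 24 * (m * n) + 2 * n * A.card + 2 * m * B.card + 4 * (A ∩ B).card +
      4 * n * ∑ i, a i + 4 * m * ∑ i, b i +
      8 * (∑ i ∈ A, b i + ∑ i ∈ B, a i + 2 * ∑ i, a i * b i) := by
  have e : dotInt x y = ∑ i, (m * n + 2 * n * chi A i + 2 * m * chi B i + 4 * (chi A i * chi B i) +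
      4 * n * a i + 4 * m * b i + 8 * (chi A i * b i + chi B i * a i + 2 * (a i * b i))) :=
    Finset.sum_congr rfl fun i _ => by rw [hx i, hy i]; ring
  rw [e]
  simp only [Finset.sum_add_distrib, ← Finset.mul_sum, sum_chi, sum_chi_chi, sum_chi_mul]
  rw [Finset.sum_const, Finset.card_univ, card_golayPt]
  simp
  ring

theorem eight_dvd_dotInt {x y : GolayPt → ℤ} (hx : x ∈ leechLattice) (hy : y ∈ leechLattice) :
    (8 : ℤ) ∣ dotInt x y := by
  have key : ∀ m n : ℤ, (m = 0 ∨ m = 1) → (n = 0 ∨ n = 1) → IsLeech m x → IsLeech n y →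
      (8 : ℤ) ∣ dotInt x y := by
    intro m n hm hn h1 h2
    obtain ⟨A, hA, a, ha, hsa⟩ := exists_form h1 hm
    obtain ⟨B, hB, b, hb, hsb⟩ := exists_form h2 hn
    rw [dot_form ha hb]
    obtain ⟨k, hk⟩ := four_dvd_card hA
    obtain ⟨l, hl⟩ := four_dvd_card hB
    obtain ⟨r, hr⟩ := even_inter hA hB
    rw [hk, hl, hr]
    push_cast
    unfold Int.ModEq at hsa hsb
    generalize (∑ i, a i) = sa at *
    generalize (∑ i, b i) = sb at *
    generalize (∑ i ∈ A, b i + ∑ i ∈ B, a i + 2 * ∑ i, a i * b i) = t at *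
    rcases hm with rfl | rfl <;> rcases hn with rfl | rfl <;> omega
  rcases isLeech_zero_or_one hx with h1 | h1 <;> rcases isLeech_zero_or_one hy with h2 | h2
  · exact key 0 0 (Or.inl rfl) (Or.inl rfl) h1 h2
  · exact key 0 1 (Or.inl rfl) (Or.inr rfl) h1 h2
  · exact key 1 0 (Or.inr rfl) (Or.inl rfl) h1 h2
  · exact key 1 1 (Or.inr rfl) (Or.inr rfl) h1 h2

theorem sixteen_dvd_sqNorm {x : GolayPt → ℤ} (hx : x ∈ leechLattice) : (16 : ℤ) ∣ sqNorm x := by
  have key : ∀ m : ℤ, (m = 0 ∨ m = 1) → IsLeech m x → (16 : ℤ) ∣ sqNorm x := by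
    intro m hm h1
    obtain ⟨A, hA, a, ha, hsa⟩ := exists_form h1 hm
    rw [← dotInt_self, dot_form ha ha]
    obtain ⟨k, hk⟩ := four_dvd_card hA
    rw [Finset.inter_self, hk]
    push_cast
    unfold Int.ModEq at hsa
    have h2 : (2 : ℤ) ∣ (∑ i ∈ A, a i + ∑ i ∈ A, a i + 2 * ∑ i, a i * a i) :=
      ⟨∑ i ∈ A, a i + ∑ i, a i * a i, by ring⟩
    generalize (∑ i, a i) = sa at *
    generalize (∑ i ∈ A, a i + ∑ i ∈ A, a i + 2 * ∑ i, a i * a i) = t at *
    rcases hm with rfl | rfl <;> omega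
  rcases isLeech_zero_or_one hx with h1 | h1
  · exact key 0 (Or.inl rfl) h1
  · exact key 1 (Or.inr rfl) h1

/-! ### Sums of nonnegative integers with small total -/

theorem exists_of_sum_eq_one {f : GolayPt → ℤ} (h0 : ∀ i, 0 ≤ f i) (hs : ∑ i, f i = 1) :
    ∃ p, f p = 1 ∧ ∀ i, i ≠ p → f i = 0 := by
  have hex : ∃ p, f p ≠ 0 := by
    by_contra hcon
    push Not at hcon
    rw [Finset.sum_eq_zero fun i _ => hcon i] at hs
    exact absurd hs (by norm_num)
  obtain ⟨p, hp⟩ := hex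
  have h1 := h0 p
  have hsplit : f p + ∑ i ∈ Finset.univ.erase p, f i = 1 := by
    rw [Finset.add_sum_erase _ _ (Finset.mem_univ p)]; exact hs
  have h2 : 0 ≤ ∑ i ∈ Finset.univ.erase p, f i := Finset.sum_nonneg fun i _ => h0 i
  have h3 : ∑ i ∈ Finset.univ.erase p, f i = 0 := by omega
  rw [Finset.sum_eq_zero_iff_of_nonneg fun i _ => h0 i] at h3
  refine ⟨p, by omega, fun i hi => h3 i (Finset.mem_erase.2 ⟨hi, Finset.mem_univ i⟩)⟩

theorem exists_of_sum_eq_two {f : GolayPt → ℤ} (h0 : ∀ i, 0 ≤ f i) (h2 : ∀ i, f i ≠ 2)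
    (hs : ∑ i, f i = 2) :
    ∃ p q, p ≠ q ∧ f p = 1 ∧ f q = 1 ∧ ∀ i, i ≠ p → i ≠ q → f i = 0 := by
  have hex : ∃ p, f p ≠ 0 := by
    by_contra hcon
    push Not at hcon
    rw [Finset.sum_eq_zero fun i _ => hcon i] at hs
    exact absurd hs (by norm_num)
  obtain ⟨p, hp⟩ := hex
  have h1 := h0 p
  have h2p := h2 p
  have hsplit : f p + ∑ i ∈ Finset.univ.erase p, f i = 2 := by
    rw [Finset.add_sum_erase _ _ (Finset.mem_univ p)]; exact hs
  have h2' : 0 ≤ ∑ i ∈ Finset.univ.erase p, f i := Finset.sum_nonneg fun i _ => h0 i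
  have hp1 : f p = 1 := by omega
  have hsum : ∑ i, (if i = p then 0 else f i) = 1 := by
    have e : ∑ i ∈ Finset.univ.erase p, f i = ∑ i ∈ Finset.univ.erase p, (if i = p then 0 else f i) :=
      Finset.sum_congr rfl fun i hi => by rw [if_neg (Finset.mem_erase.1 hi).1]
    rw [← Finset.add_sum_erase _ _ (Finset.mem_univ p), if_pos rfl, ← e]
    omega
  obtain ⟨q, hq1, hq2⟩ := exists_of_sum_eq_one
    (f := fun i => if i = p then 0 else f i) (fun i => by
      by_cases h : i = p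
      · simp [h]
      · simpa [h] using h0 i) hsum
  have hqp : q ≠ p := by
    rintro rfl
    simp at hq1
  refine ⟨p, q, hqp.symm, hp1, by simpa [hqp] using hq1, fun i hi hi' => ?_⟩
  simpa [hi] using hq2 i hi'

/-! ### Minimal vectors -/

theorem even_cls_card_le {x a : GolayPt → ℤ} {A : Finset GolayPt}
    (hx : ∀ i, x i = 0 + 2 * chi A i + 4 * a i) (i : GolayPt) : 4 * chi A i ≤ x i ^ 2 := by
  rw [hx i]
  unfold chi
  split_ifs
  · have h : (0 + 2 * 1 + 4 * a i) ^ 2 = 4 + 16 * (a i * (a i + 1)) := by ring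
    rw [h]
    have : 0 ≤ a i * (a i + 1) := by
      rcases le_or_gt 0 (a i) with h | h
      · positivity
      · exact mul_nonneg_of_nonpos_of_nonpos h.le (by omega)
    linarith
  · rw [mul_zero]; positivity

/-- A nonzero lattice vector has norm at least 32. -/
theorem le_sqNorm {x : GolayPt → ℤ} (hx : x ∈ leechLattice) (h0 : x ≠ 0) : 32 ≤ sqNorm x := by
  obtain ⟨k, hk⟩ := sixteen_dvd_sqNorm hx
  have hnn := sqNorm_nonneg x
  by_contra hlt
  push Not at hlt
  have hk01 : k = 0 ∨ k = 1 := by omega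
  have hle : sqNorm x ≤ 16 := by omega
  rcases isLeech_zero_or_one hx with h | h
  · obtain ⟨A, hA, a, ha, hsa⟩ := exists_form h (Or.inl rfl)
    have h1 : ∑ i, 4 * chi A i ≤ sqNorm x := Finset.sum_le_sum fun i _ => even_cls_card_le ha i
    rw [← Finset.mul_sum, sum_chi] at h1
    have hAe : A = ∅ := by
      by_contra hne
      have := eight_le_card hA (Finset.nonempty_iff_ne_empty.2 hne)
      omega
    subst hAe
    have hx4 : ∀ i, x i = 4 * a i := fun i => by rw [ha i]; unfold chi; simp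
    have hN : sqNorm x = 16 * ∑ i, a i ^ 2 := by
      unfold sqNorm
      rw [Finset.mul_sum]
      exact Finset.sum_congr rfl fun i _ => by rw [hx4 i]; ring
    rcases hk01 with rfl | rfl
    · have hz : ∑ i, a i ^ 2 = 0 := by omega
      rw [Finset.sum_eq_zero_iff_of_nonneg fun i _ => sq_nonneg _] at hz
      apply h0
      funext i
      have := hz i (Finset.mem_univ i)
      rw [hx4 i, pow_eq_zero_iff (two_ne_zero)] at *
      simp [this]
    · have hz : ∑ i, a i ^ 2 = 1 := by omega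
      obtain ⟨p, hp, hp'⟩ := exists_of_sum_eq_one (fun i => sq_nonneg (a i)) hz
      have hs : ∑ i, a i = a p := by
        rw [Finset.sum_eq_single p]
        · intro i _ hi
          exact pow_eq_zero_iff (two_ne_zero) |>.1 (hp' i hi)
        · intro h; exact absurd (Finset.mem_univ p) h
      rw [hs] at hsa
      rcases mul_self_eq_one_iff.1 ((sq (a p)).symm.trans hp) with h | h
      all_goals (rw [h] at hsa; exact absurd hsa (by decide))
  · have h1 : ∀ i, 1 ≤ x i ^ 2 := fun i => by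
      have := h.par i
      have hne : x i ≠ 0 := by
        intro h0
        rw [h0] at this
        exact absurd this (by decide)
      have := sq_pos_of_ne_zero hne
      omega
    have h2 : ∑ _i : GolayPt, (1 : ℤ) ≤ sqNorm x := Finset.sum_le_sum fun i _ => h1 i
    rw [Finset.sum_const, Finset.card_univ, card_golayPt] at h2
    simp at h2
    omega

end Cfsg.Agent.Leech.Basic
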