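import Mathlib
import Cfsg.Prelude.Def_Sporadic_a
set_option linter.all false

set_option autoImplicit false

/-!
Elementary normal forms of the vectors of `leechSet`: even and odd vectors, with `%`-conditions.
-/

namespace Cfsg.Agent.Leech.Norm

open Finset Cfsg

/-- The family of supports of code words. -/
abbrev GS : Set (Finset GolayPt) := supports (golayCode : Set (GolayPt → ZMod 2))

theorem one_mem_golay : (1 : GolayPt → ZMod 2) ∈ golayCode :=
  Submodule.subset_span (Set.mem_union_right _ rfl)

theorem zmod2_ne_zero_iff (a : ZMod 2) : a ≠ 0 ↔ a = 1 := by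
  revert a; decide

/-- The indicator word of a set of points. -/
def indic (c : Finset GolayPt) : GolayPt → ZMod 2 := fun p => if p ∈ c then 1 else 0

theorem support_indic (c : Finset GolayPt) : support₂ (indic c) = c := by
  ext p
  simp [support₂, indic]

theorem indic_support (w : GolayPt → ZMod 2) : indic (support₂ w) = w := by
  funext p
  simp only [indic, support₂, mem_filter, mem_univ, true_and]
  by_cases h : w p = 0
  · simp [h]
  · rw [if_pos h, (zmod2_ne_zero_iff _).mp h]

theorem mem_GS_iff (c : Finset GolayPt) : c ∈ GS ↔ indic c ∈ golayCode := by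
  constructor
  · rintro ⟨w, hw, rfl⟩
    rw [indic_support]; exact hw
  · intro h
    exact ⟨indic c, h, support_indic c⟩

theorem univ_mem_GS : (Finset.univ : Finset GolayPt) ∈ GS := by
  rw [mem_GS_iff]
  have : indic (Finset.univ : Finset GolayPt) = 1 := by funext p; simp [indic]
  rw [this]; exact one_mem_golay

theorem empty_mem_GS : (∅ : Finset GolayPt) ∈ GS := by
  rw [mem_GS_iff]
  have : indic (∅ : Finset GolayPt) = 0 := by funext p; simp [indic]
  rw [this]; exact Submodule.zero_mem _

theorem compl_mem_GS {c : Finset GolayPt} (hc : c ∈ GS) : cᶜ ∈ GS := by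
  rw [mem_GS_iff] at hc ⊢
  have : indic cᶜ = indic c + 1 := by
    funext p
    by_cases h : p ∈ c
    · simp [indic, h]; decide
    · simp [indic, h]
  rw [this]; exact Submodule.add_mem _ hc one_mem_golay

theorem symmDiff_mem_GS {c d : Finset GolayPt} (hc : c ∈ GS) (hd : d ∈ GS) : symmDiff c d ∈ GS := by
  rw [mem_GS_iff] at hc hd ⊢
  have : indic (symmDiff c d) = indic c + indic d := by
    funext p
    by_cases h : p ∈ c <;> by_cases h' : p ∈ d <;> simp [indic, h, h', Finset.mem_symmDiff]
    decide
  rw [this]; exact Submodule.add_mem _ hc hd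

theorem parity_of_mem {x : GolayPt → ℤ} (hx : x ∈ leechSet) :
    (∀ i, x i % 2 = 0) ∨ (∀ i, x i % 2 = 1) := by
  obtain ⟨m, hm, -, -⟩ := hx
  rcases Int.emod_two_eq_zero_or_one m with h | h
  · left; intro i; have := hm i; unfold Int.ModEq at this; omega
  · right; intro i; have := hm i; unfold Int.ModEq at this; omega

theorem mem_iff_of_even {x : GolayPt → ℤ} (hx : ∀ i, x i % 2 = 0) :
    x ∈ leechSet ↔ (∑ i, x i) % 8 = 0 ∧ (Finset.univ.filter fun i => x i % 4 = 2) ∈ GS := by
  constructor
  · rintro ⟨m, hm, hs, hk⟩
    have hm0 : m % 2 = 0 := by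
      have := hm none; have h2 := hx none; unfold Int.ModEq at this; omega
    refine ⟨by unfold Int.ModEq at hs; omega, ?_⟩
    have := hk 2
    exact this
  · rintro ⟨hs, hk⟩
    refine ⟨0, fun i => by have := hx i; unfold Int.ModEq; omega, by unfold Int.ModEq; omega, fun k => ?_⟩
    have hk4 : k % 4 = 0 ∨ k % 4 = 1 ∨ k % 4 = 2 ∨ k % 4 = 3 := by omega
    rcases hk4 with h | h | h | h
    · have : (Finset.univ.filter fun i => x i ≡ k [ZMOD 4]) = (Finset.univ.filter fun i => x i % 4 = 2)ᶜ := by
        ext i; simp only [mem_filter, mem_univ, true_and, mem_compl]; have := hx i; unfold Int.ModEq; omega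
      rw [this]; exact compl_mem_GS hk
    · have : (Finset.univ.filter fun i => x i ≡ k [ZMOD 4]) = ∅ := by
        ext i; simp only [mem_filter, mem_univ, true_and, notMem_empty, iff_false]
        have := hx i; unfold Int.ModEq; omega
      rw [this]; exact empty_mem_GS
    · have : (Finset.univ.filter fun i => x i ≡ k [ZMOD 4]) = (Finset.univ.filter fun i => x i % 4 = 2) := by
        ext i; simp only [mem_filter, mem_univ, true_and]; have := hx i; unfold Int.ModEq; omega
      rw [this]; exact hk
    · have : (Finset.univ.filter fun i => x i ≡ k [ZMOD 4]) = ∅ := by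
        ext i; simp only [mem_filter, mem_univ, true_and, notMem_empty, iff_false]
        have := hx i; unfold Int.ModEq; omega
      rw [this]; exact empty_mem_GS

theorem mem_iff_of_odd {x : GolayPt → ℤ} (hx : ∀ i, x i % 2 = 1) :
    x ∈ leechSet ↔ (∑ i, x i) % 8 = 4 ∧ (Finset.univ.filter fun i => x i % 4 = 3) ∈ GS := by
  constructor
  · rintro ⟨m, hm, hs, hk⟩
    have hm0 : m % 2 = 1 := by
      have := hm none; have h2 := hx none; unfold Int.ModEq at this; omega
    refine ⟨by unfold Int.ModEq at hs; omega, ?_⟩
    have := hk 3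
    exact this
  · rintro ⟨hs, hk⟩
    refine ⟨1, fun i => by have := hx i; unfold Int.ModEq; omega, by unfold Int.ModEq; omega, fun k => ?_⟩
    have hk4 : k % 4 = 0 ∨ k % 4 = 1 ∨ k % 4 = 2 ∨ k % 4 = 3 := by omega
    rcases hk4 with h | h | h | h
    · have : (Finset.univ.filter fun i => x i ≡ k [ZMOD 4]) = ∅ := by
        ext i; simp only [mem_filter, mem_univ, true_and, notMem_empty, iff_false]
        have := hx i; unfold Int.ModEq; omega
      rw [this]; exact empty_mem_GS
    · have : (Finset.univ.filter fun i => x i ≡ k [ZMOD 4]) = (Finset.univ.filter fun i => x i % 4 = 3)ᶜ := by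
        ext i; simp only [mem_filter, mem_univ, true_and, mem_compl]; have := hx i; unfold Int.ModEq; omega
      rw [this]; exact compl_mem_GS hk
    · have : (Finset.univ.filter fun i => x i ≡ k [ZMOD 4]) = ∅ := by
        ext i; simp only [mem_filter, mem_univ, true_and, notMem_empty, iff_false]
        have := hx i; unfold Int.ModEq; omega
      rw [this]; exact empty_mem_GS
    · have : (Finset.univ.filter fun i => x i ≡ k [ZMOD 4]) = (Finset.univ.filter fun i => x i % 4 = 3) := by
        ext i; simp only [mem_filter, mem_univ, true_and]; have := hx i; unfold Int.ModEq; omega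
      rw [this]; exact hk

end Cfsg.Agent.Leech.Norm
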