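import Mathlib
import Cfsg.Prelude.Def_Sporadic_a
import Cfsg.Agent.Leech.Norm
import Cfsg.Agent.SporadicA.LeechSet
import Cfsg.Agent.SporadicA.GolayWeight
import Cfsg.Agent.SporadicA.GolayCount
set_option linter.all false

-- part: Leech/Gen
section
set_option autoImplicit false

/-!
Generating functions for counting integer vectors with given sum of squares, and kernel evaluation of
coefficients of natural-number polynomials by Kronecker substitution.
-/

namespace Cfsg.Agent.Leech.Gen

open Polynomial Finset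

/-- Number of vectors in a finite box with prescribed "sum of weights": a coefficient of a product. -/
theorem card_piFinset_weight {ι κ : Type*} [Fintype ι] [DecidableEq ι] [DecidableEq κ]
    (A : ι → Finset κ) (f : ι → κ → ℕ) (M : ℕ) :
    ((Fintype.piFinset A).filter (fun y => ∑ i, f i (y i) = M)).card
      = (∏ i, ∑ a ∈ A i, (X : ℕ[X]) ^ (f i a)).coeff M := by
  rw [Finset.prod_univ_sum, Polynomial.finsetSum_coeff, Finset.card_filter]
  refine Finset.sum_congr rfl fun y _ => ?_
  rw [Finset.prod_pow_eq_pow_sum, Polynomial.coeff_X_pow]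
  by_cases h : ∑ i, f i (y i) = M
  · simp [h]
  · rw [if_neg h, if_neg (fun h' => h h'.symm)]

/-- Coefficients of a natural-number polynomial are bounded by its value at 1. -/
theorem coeff_le_eval_one (P : ℕ[X]) (k : ℕ) : P.coeff k ≤ P.eval 1 := by
  rw [Polynomial.eval_eq_sum, Polynomial.sum]
  simp only [one_pow, mul_one]
  by_cases hk : k ∈ P.support
  · exact Finset.single_le_sum (f := fun n => P.coeff n) (fun _ _ => Nat.zero_le _) hk
  · rw [Polynomial.notMem_support_iff.mp hk]; exact Nat.zero_le _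

/-- Kronecker substitution: when all coefficients are below `B`, the coefficients are the base-`B`
digits of the value at `B`. -/
theorem coeff_eq_digit (B : ℕ) (k : ℕ) : ∀ (P : ℕ[X]), (∀ n, P.coeff n < B) →
    P.coeff k = P.eval B / B ^ k % B := by
  induction k with
  | zero =>
    intro P hP
    have h1 : P.eval B = P.divX.eval B * B + P.coeff 0 := by
      conv_lhs => rw [← Polynomial.divX_mul_X_add P]
      simp
    rw [h1, pow_zero, Nat.div_one, Nat.mul_add_mod_self_right, Nat.mod_eq_of_lt (hP 0)]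
  | succ k ih =>
    intro P hP
    have hB : 0 < B := lt_of_le_of_lt (Nat.zero_le _) (hP 0)
    have h1 : P.eval B = P.divX.eval B * B + P.coeff 0 := by
      conv_lhs => rw [← Polynomial.divX_mul_X_add P]
      simp
    have h2 : P.eval B / B = P.divX.eval B := by
      rw [h1, mul_comm, Nat.mul_add_div hB, Nat.div_eq_of_lt (hP 0), add_zero]
    rw [pow_succ', ← Nat.div_div_eq_div_mul, h2, ← ih P.divX (fun n => by
      rw [Polynomial.coeff_divX]; exact hP _), Polynomial.coeff_divX]

/-- Kronecker substitution with the crude bound `P(1) < B`. -/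
theorem coeff_eq_eval (P : ℕ[X]) (B k : ℕ) (hB : P.eval 1 < B) :
    P.coeff k = P.eval B / B ^ k % B :=
  coeff_eq_digit B k P fun n => lt_of_le_of_lt (coeff_le_eval_one P n) hB

end Cfsg.Agent.Leech.Gen
end

-- part: Leech/Count
section
set_option autoImplicit false

/-!
Counting the vectors of `leechSet` of given sum of squares `N` (a multiple of 16), in terms of the
weight distribution of the code.
-/

namespace Cfsg.Agent.Leech.Count

open Finset Polynomial Cfsg Cfsg.Agent.Leech.Gen Cfsg.Agent.Leech.Norm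

/-- integers of absolute value at most `R` congruent to `k` modulo `m` -/
noncomputable def box (m k : ℤ) (R : ℕ) : Finset ℤ := (Finset.Icc (-(R : ℤ)) R).filter (fun a => a % m = k)

theorem mem_box {m k : ℤ} {R : ℕ} {a : ℤ} : a ∈ box m k R ↔ (-(R : ℤ) ≤ a ∧ a ≤ R) ∧ a % m = k := by
  simp [box]

/-- generating function of the squares of a finite set of integers -/
noncomputable def gf (A : Finset ℤ) : ℕ[X] := ∑ a ∈ A, (X : ℕ[X]) ^ (a.natAbs ^ 2)

theorem sum_natAbs_sq {ι : Type*} [Fintype ι] (y : ι → ℤ) :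
    ((∑ i, (y i).natAbs ^ 2 : ℕ) : ℤ) = ∑ i, y i ^ 2 := by
  push_cast
  exact Finset.sum_congr rfl fun i _ => by rw [sq_abs]

/-- vectors in a box with sum of squares `M`, with one local condition on `c` and one off `c` -/
def Y (A B : Finset ℤ) (c : Finset GolayPt) (M : ℕ) : Finset (GolayPt → ℤ) :=
  (Fintype.piFinset (fun i => if i ∈ c then A else B)).filter (fun y => ∑ i, (y i).natAbs ^ 2 = M)

theorem card_Y (A B : Finset ℤ) (c : Finset GolayPt) (M : ℕ) :
    (Y A B c M).card = (gf A ^ c.card * gf B ^ (24 - c.card)).coeff M := by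
  have h := card_piFinset_weight (fun i => if i ∈ c then A else B)
    (fun (_ : GolayPt) (a : ℤ) => a.natAbs ^ 2) M
  unfold Y
  rw [h]
  congr 1
  have h1 : ∀ i : GolayPt, (∑ a ∈ (if i ∈ c then A else B), (X : ℕ[X]) ^ (a.natAbs ^ 2))
      = if i ∈ c then gf A else gf B := by
    intro i; split_ifs <;> rfl
  rw [Finset.prod_congr rfl (fun i _ => h1 i), Finset.prod_ite, Finset.prod_const, Finset.prod_const]
  have h2 : (Finset.univ.filter fun i : GolayPt => i ∈ c) = c := by ext; simp
  have h3 : (Finset.univ.filter fun i : GolayPt => i ∉ c) = cᶜ := by ext; simp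
  rw [h2, h3, Finset.card_compl]
  have h4 : Fintype.card GolayPt = 24 := by simp [GolayPt]
  rw [h4]

/-- the members of `Y` (odd on `c`, even off `c`) with sum divisible by 4 -/
noncomputable def E (R : ℕ) (c : Finset GolayPt) (M : ℕ) : Finset (GolayPt → ℤ) :=
  (Y (box 2 1 R) (box 2 0 R) c M).filter (fun y => (∑ i, y i) % 4 = 0)

theorem mem_Y_iff {A B : Finset ℤ} {c : Finset GolayPt} {M : ℕ} {y : GolayPt → ℤ} :
    y ∈ Y A B c M ↔ (∀ i, (i ∈ c → y i ∈ A) ∧ (i ∉ c → y i ∈ B)) ∧ ∑ i, (y i).natAbs ^ 2 = M := by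
  simp only [Y, mem_filter, Fintype.mem_piFinset]
  refine and_congr_left fun _ => forall_congr' fun i => ?_
  by_cases h : i ∈ c <;> simp [h]

/-- the parity of a sum of integers is the parity of the number of odd terms -/
theorem sum_mod_two {c : Finset GolayPt} {y : GolayPt → ℤ}
    (h : ∀ i, (i ∈ c → y i % 2 = 1) ∧ (i ∉ c → y i % 2 = 0)) : (∑ i, y i) % 2 = (c.card : ℤ) % 2 := by
  have h1 : ∀ i, y i ≡ (if i ∈ c then 1 else 0) [ZMOD 2] := by
    intro i
    unfold Int.ModEq
    split_ifs with hi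
    · rw [(h i).1 hi]; rfl
    · rw [(h i).2 hi]; rfl
  have h2 : (∑ i, y i) ≡ (∑ i : GolayPt, if i ∈ c then (1 : ℤ) else 0) [ZMOD 2] :=
    Int.ModEq.sum fun i _ => h1 i
  have h3 : (∑ i : GolayPt, if i ∈ c then (1 : ℤ) else 0) = c.card := by
    rw [Finset.sum_ite_mem, Finset.univ_inter]; simp
  rw [h3] at h2
  exact h2

/-- the map changing the sign of one coordinate -/
def flip (j : GolayPt) (y : GolayPt → ℤ) : GolayPt → ℤ := fun i => if i = j then - y i else y i

theorem flip_flip (j : GolayPt) (y : GolayPt → ℤ) : flip j (flip j y) = y := by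
  funext i; simp only [flip]; split_ifs <;> simp

theorem sum_flip (j : GolayPt) (y : GolayPt → ℤ) : ∑ i, flip j y i = (∑ i, y i) - 2 * y j := by
  have : ∀ i, flip j y i = y i - (if i = j then 2 * y j else 0) := by
    intro i; simp only [flip]; split_ifs with h
    · subst h; ring
    · ring
  rw [Finset.sum_congr rfl fun i _ => this i, Finset.sum_sub_distrib, Finset.sum_ite_eq' Finset.univ j]
  simp

theorem flip_mem_Y {R : ℕ} {c : Finset GolayPt} {M : ℕ} {y : GolayPt → ℤ} (j : GolayPt)
    (hy : y ∈ Y (box 2 1 R) (box 2 0 R) c M) : flip j y ∈ Y (box 2 1 R) (box 2 0 R) c M := by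
  rw [mem_Y_iff] at hy ⊢
  refine ⟨fun i => ?_, ?_⟩
  · have := hy.1 i
    simp only [mem_box, flip] at this ⊢
    split_ifs
    · refine ⟨fun h => ?_, fun h => ?_⟩
      · have := this.1 h; omega
      · have := this.2 h; omega
    · exact this
  · rw [← hy.2]
    refine Finset.sum_congr rfl fun i _ => ?_
    simp only [flip]; split_ifs <;> simp

theorem sum_mod_two_of_mem_Y {R : ℕ} {c : Finset GolayPt} {M : ℕ} {y : GolayPt → ℤ}
    (hy : y ∈ Y (box 2 1 R) (box 2 0 R) c M) : (∑ i, y i) % 2 = (c.card : ℤ) % 2 := by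
  rw [mem_Y_iff] at hy
  refine sum_mod_two fun i => ?_
  have := hy.1 i
  simp only [mem_box] at this
  exact ⟨fun h => (this.1 h).2, fun h => (this.2 h).2⟩

/-- For a nonempty code word exactly half of the vectors have the right sum. -/
theorem two_mul_card_E {R : ℕ} {c : Finset GolayPt} {M : ℕ} (hc : c.Nonempty) (h2 : 2 ∣ c.card) :
    2 * (E R c M).card = (Y (box 2 1 R) (box 2 0 R) c M).card := by
  obtain ⟨j, hj⟩ := hc
  have h1 := Finset.card_filter_add_card_filter_not (s := Y (box 2 1 R) (box 2 0 R) c M)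
    (fun y => (∑ i, y i) % 4 = 0)
  have h3 : ((Y (box 2 1 R) (box 2 0 R) c M).filter (fun y => ¬ (∑ i, y i) % 4 = 0)).card
      = (E R c M).card := by
    refine Finset.card_nbij' (flip j) (flip j) ?_ ?_ (fun y _ => flip_flip j y)
      (fun y _ => flip_flip j y)
    · intro y hy
      simp only [coe_filter, Set.mem_ofPred_eq, E] at hy ⊢
      refine ⟨flip_mem_Y j hy.1, ?_⟩
      have hs := sum_mod_two_of_mem_Y hy.1
      have hyj : y j % 2 = 1 := (mem_box.mp (((mem_Y_iff.mp hy.1).1 j).1 hj)).2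
      rw [sum_flip]
      omega
    · intro y hy
      simp only [coe_filter, Set.mem_ofPred_eq, E] at hy ⊢
      refine ⟨flip_mem_Y j hy.1, ?_⟩
      have hyj : y j % 2 = 1 := (mem_box.mp (((mem_Y_iff.mp hy.1).1 j).1 hj)).2
      rw [sum_flip]
      omega
  rw [h3] at h1
  rw [← h1]
  change 2 * (E R c M).card = (E R c M).card + (E R c M).card
  ring

theorem sq_emod_eight_of_even {a : ℤ} (h : a % 2 = 0) : a ^ 2 % 8 = (2 * a) % 8 := by
  obtain ⟨t, rfl⟩ : ∃ t, a = 2 * t := ⟨a / 2, by omega⟩
  rcases Int.emod_two_eq_zero_or_one t with h' | h'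
  · obtain ⟨s, rfl⟩ : ∃ s, t = 2 * s := ⟨t / 2, by omega⟩
    have : (2 * (2 * s)) ^ 2 = 8 * (2 * s ^ 2) := by ring
    rw [this]; omega
  · obtain ⟨s, rfl⟩ : ∃ s, t = 2 * s + 1 := ⟨t / 2, by omega⟩
    have : (2 * (2 * s + 1)) ^ 2 = 8 * (2 * s ^ 2 + 2 * s) + 4 := by ring
    rw [this]; omega

/-- For the zero word all or none of the vectors have the right sum. -/
theorem card_E_empty {R : ℕ} {M : ℕ} (h4 : 4 ∣ M) :
    (E R ∅ M).card = if 8 ∣ M then (Y (box 2 1 R) (box 2 0 R) ∅ M).card else 0 := by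
  have key : ∀ y ∈ Y (box 2 1 R) (box 2 0 R) ∅ M, (2 * ∑ i, y i) % 8 = (M : ℤ) % 8 := by
    intro y hy
    rw [mem_Y_iff] at hy
    have h1 : ∀ i, y i ^ 2 ≡ 2 * y i [ZMOD 8] := fun i =>
      sq_emod_eight_of_even (mem_box.mp ((hy.1 i).2 (Finset.notMem_empty i))).2
    have h2 : (∑ i, y i ^ 2) ≡ ∑ i, 2 * y i [ZMOD 8] := Int.ModEq.sum fun i _ => h1 i
    rw [← sum_natAbs_sq, hy.2, ← Finset.mul_sum] at h2
    exact h2.symm
  split_ifs with h
  · unfold E
    rw [Finset.filter_true_of_mem]
    intro y hy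
    have := key y hy
    omega
  · unfold E
    rw [Finset.filter_false_of_mem, Finset.card_empty]
    intro y hy
    have := key y hy
    omega

/-- odd vectors: congruent to 3 mod 4 on `c` and to 1 mod 4 off `c` -/
noncomputable def Z (R : ℕ) (c : Finset GolayPt) (N : ℕ) : Finset (GolayPt → ℤ) := Y (box 4 3 R) (box 4 1 R) c N

theorem gf_box_three (R : ℕ) : gf (box 4 3 R) = gf (box 4 1 R) := by
  unfold gf
  refine Finset.sum_nbij' (fun a => -a) (fun a => -a) ?_ ?_ ?_ ?_ ?_
  · intro a ha; simp only [mem_box] at ha ⊢; omega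
  · intro a ha; simp only [mem_box] at ha ⊢; omega
  · intro a _; ring
  · intro a _; ring
  · intro a _; simp

theorem card_Z (R : ℕ) (c : Finset GolayPt) (N : ℕ) :
    (Z R c N).card = (gf (box 4 1 R) ^ 24).coeff N := by
  unfold Z
  rw [card_Y, gf_box_three, ← pow_add, Nat.add_sub_cancel']
  exact (Finset.card_le_univ c).trans (by simp [GolayPt])

theorem sq_emod_sixteen_of_one {a : ℤ} (h : a % 4 = 1) : a ^ 2 % 16 = (2 * a - 1) % 16 := by
  obtain ⟨t, rfl⟩ : ∃ t, a = 4 * t + 1 := ⟨a / 4, by omega⟩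
  have : (4 * t + 1) ^ 2 = 16 * t ^ 2 + 8 * t + 1 := by ring
  rw [this]; omega

theorem sum_mod_eight_of_mem_Z {R : ℕ} {c : Finset GolayPt} {N : ℕ} {x : GolayPt → ℤ}
    (hc : 4 ∣ c.card) (hN : 16 ∣ N) (hx : x ∈ Z R c N) : (∑ i, x i) % 8 = 4 := by
  unfold Z at hx
  rw [mem_Y_iff] at hx
  obtain ⟨hx, hs⟩ := hx
  have h1 : ∀ i, x i ^ 2 ≡ (2 * (x i - 2 * if i ∈ c then x i else 0) - 1) [ZMOD 16] := by
    intro i
    by_cases hi : i ∈ c
    · have h3 := (mem_box.mp ((hx i).1 hi)).2
      have h4 : (-(x i)) % 4 = 1 := by omega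
      have h5 := sq_emod_sixteen_of_one h4
      rw [if_pos hi]
      have h6 : 2 * (x i - 2 * x i) - 1 = 2 * (-(x i)) - 1 := by ring
      rw [neg_sq] at h5
      rw [h6]
      exact h5
    · have h3 := (mem_box.mp ((hx i).2 hi)).2
      have h5 := sq_emod_sixteen_of_one h3
      rw [if_neg hi]
      have h6 : 2 * (x i - 2 * 0) - 1 = 2 * (x i) - 1 := by ring
      rw [h6]
      exact h5
  have h2 : (∑ i, x i ^ 2) ≡ ∑ i, (2 * (x i - 2 * if i ∈ c then x i else 0) - 1) [ZMOD 16] :=
    Int.ModEq.sum fun i _ => h1 i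
  rw [← sum_natAbs_sq, hs, Finset.sum_sub_distrib, ← Finset.mul_sum, Finset.sum_sub_distrib,
    ← Finset.mul_sum] at h2
  have h3 : (∑ i : GolayPt, (1 : ℤ)) = 24 := by simp [GolayPt]
  have h4 : (∑ i, if i ∈ c then x i else 0) ≡ (∑ i : GolayPt, if i ∈ c then (3 : ℤ) else 0) [ZMOD 4] := by
    refine Int.ModEq.sum fun i _ => ?_
    split_ifs with hi
    · exact (mem_box.mp ((hx i).1 hi)).2
    · rfl
  have h5 : (∑ i : GolayPt, if i ∈ c then (3 : ℤ) else 0) = 3 * c.card := by
    rw [Finset.sum_ite_mem, Finset.univ_inter]; simp [mul_comm]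
  rw [h5] at h4
  rw [h3] at h2
  unfold Int.ModEq at h2 h4
  omega

/-- coordinates of a vector of bounded norm are bounded -/
theorem natAbs_le_of_sum {R M : ℕ} (hR : M < (R + 1) ^ 2) {y : GolayPt → ℤ}
    (hy : ∑ i, (y i).natAbs ^ 2 = M) (i : GolayPt) : -(R : ℤ) ≤ y i ∧ y i ≤ R := by
  have h1 : (y i).natAbs ^ 2 ≤ M := by
    rw [← hy]
    exact Finset.single_le_sum (f := fun i => (y i).natAbs ^ 2) (fun _ _ => Nat.zero_le _)
      (Finset.mem_univ i)
  have h2 : (y i).natAbs < R + 1 := by
    by_contra h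
    have := Nat.pow_le_pow_left (not_lt.mp h) 2
    omega
  omega

/-- The vectors of `leechSet` of norm `4 * M` (with `4 ∣ M`), as an explicit finite set. -/
theorem leechSet_norm_eq (C : Finset (Finset GolayPt)) (hC : ∀ c, c ∈ C ↔ c ∈ GS)
    (hw : ∀ c ∈ C, 4 ∣ c.card) (M R : ℕ) (hM : 4 ∣ M) (hR : 4 * M < (R + 1) ^ 2) :
    {x : GolayPt → ℤ | x ∈ leechSet ∧ sqNorm x = ((4 * M : ℕ) : ℤ)}
      = ↑((C.biUnion fun c => (E R c M).image (fun y i => 2 * y i)) ∪ C.biUnion fun c => Z R c (4 * M)) := by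
  ext x
  simp only [Set.mem_ofPred_eq, coe_union, Set.mem_union, mem_coe, mem_biUnion, mem_image]
  have hRM : M < (R + 1) ^ 2 := by omega
  constructor
  · rintro ⟨hx, hn⟩
    unfold sqNorm at hn
    rw [← sum_natAbs_sq] at hn
    have hn' : ∑ i, (x i).natAbs ^ 2 = 4 * M := by exact_mod_cast hn
    rcases parity_of_mem hx with h | h
    · left
      rw [mem_iff_of_even h] at hx
      refine ⟨_, (hC _).mpr hx.2, fun i => x i / 2, ?_, ?_⟩
      · have hy : ∑ i, (x i / 2).natAbs ^ 2 = M := by
          have : ∀ i, (x i).natAbs ^ 2 = 4 * (x i / 2).natAbs ^ 2 := by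
            intro i
            have h2 : (x i).natAbs = 2 * (x i / 2).natAbs := by have := h i; omega
            rw [h2]; ring
          rw [Finset.sum_congr rfl fun i _ => this i, ← Finset.mul_sum] at hn'
          omega
        unfold E
        rw [mem_filter, mem_Y_iff]
        refine ⟨⟨fun i => ?_, hy⟩, ?_⟩
        · have hb := natAbs_le_of_sum (y := fun i => x i / 2) hRM hy i
          simp only [mem_filter, mem_univ, true_and, mem_box]
          have := h i
          refine ⟨fun h' => ⟨hb, ?_⟩, fun h' => ⟨hb, ?_⟩⟩ <;> omega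
        · have : ∑ i, x i = 2 * ∑ i, x i / 2 := by
            rw [Finset.mul_sum]; exact Finset.sum_congr rfl fun i _ => by have := h i; omega
          have h3 := hx.1
          change (∑ i, x i / 2) % 4 = 0
          omega
      · funext i; have := h i; simp only []; omega
    · right
      rw [mem_iff_of_odd h] at hx
      refine ⟨_, (hC _).mpr hx.2, ?_⟩
      unfold Z
      rw [mem_Y_iff]
      refine ⟨fun i => ?_, hn'⟩
      have hb := natAbs_le_of_sum hR hn' i
      simp only [mem_filter, mem_univ, true_and, mem_box]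
      have := h i
      refine ⟨fun h' => ⟨hb, h'⟩, fun h' => ⟨hb, by omega⟩⟩
  · rintro (⟨c, hc, y, hy, rfl⟩ | ⟨c, hc, hx⟩)
    · unfold E at hy
      rw [mem_filter, mem_Y_iff] at hy
      obtain ⟨⟨hy, hn⟩, hs⟩ := hy
      have hev : ∀ i, (2 * y i) % 2 = 0 := fun i => by omega
      refine ⟨(mem_iff_of_even (x := fun i => 2 * y i) hev).mpr ⟨?_, ?_⟩, ?_⟩
      · rw [← Finset.mul_sum]; omega
      · have : (Finset.univ.filter fun i => (2 * y i) % 4 = 2) = c := by
          ext i
          simp only [mem_filter, mem_univ, true_and]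
          have := hy i
          simp only [mem_box] at this
          constructor
          · intro h; by_contra h'; have := this.2 h'; omega
          · intro h; have := this.1 h; omega
        rw [this]; exact (hC c).mp hc
      · unfold sqNorm
        have : ∀ i, (2 * y i) ^ 2 = 4 * y i ^ 2 := fun i => by ring
        rw [Finset.sum_congr rfl fun i _ => this i, ← Finset.mul_sum, ← sum_natAbs_sq, hn]
        push_cast; ring
    · have hsum := sum_mod_eight_of_mem_Z (hw c hc) (by omega) hx
      unfold Z at hx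
      rw [mem_Y_iff] at hx
      obtain ⟨hx, hn⟩ := hx
      have hod : ∀ i, x i % 2 = 1 := fun i => by
        have := hx i
        simp only [mem_box] at this
        by_cases h : i ∈ c
        · have := this.1 h; omega
        · have := this.2 h; omega
      refine ⟨(mem_iff_of_odd hod).mpr ⟨hsum, ?_⟩, ?_⟩
      · have : (Finset.univ.filter fun i => x i % 4 = 3) = c := by
          ext i
          simp only [mem_filter, mem_univ, true_and]
          have := hx i
          simp only [mem_box] at this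
          constructor
          · intro h; by_contra h'; have := this.2 h'; omega
          · intro h; have := this.1 h; omega
        rw [this]; exact (hC c).mp hc
      · unfold sqNorm
        rw [← sum_natAbs_sq, hn]

/-- Number of vectors of `leechSet` of norm `4 * M` as a sum over the code words. -/
theorem ncard_leechSet_norm (C : Finset (Finset GolayPt)) (hC : ∀ c, c ∈ C ↔ c ∈ GS)
    (hw : ∀ c ∈ C, 4 ∣ c.card) (M R : ℕ) (hM : 4 ∣ M) (hR : 4 * M < (R + 1) ^ 2) :
    {x : GolayPt → ℤ | x ∈ leechSet ∧ sqNorm x = ((4 * M : ℕ) : ℤ)}.ncard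
      = ∑ c ∈ C, (E R c M).card + C.card * (gf (box 4 1 R) ^ 24).coeff (4 * M) := by
  rw [leechSet_norm_eq C hC hw M R hM hR, Set.ncard_coe_finset, Finset.card_union_of_disjoint,
    Finset.card_biUnion, Finset.card_biUnion]
  · congr 1
    · refine Finset.sum_congr rfl fun c _ => Finset.card_image_of_injective _ ?_
      intro y y' h
      funext i
      have := congrFun h i
      simp only at this
      omega
    · rw [Finset.sum_congr rfl fun c _ => card_Z R c (4 * M), Finset.sum_const, smul_eq_mul]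
  · intro c _ d _ hcd
    rw [Function.onFun, Finset.disjoint_left]
    intro x hx hx'
    apply hcd
    unfold Z at hx hx'
    rw [mem_Y_iff] at hx hx'
    ext i
    have h1 := hx.1 i
    have h2 := hx'.1 i
    simp only [mem_box] at h1 h2
    constructor
    · intro h; by_contra h'; have := h1.1 h; have := h2.2 h'; omega
    · intro h; by_contra h'; have := h2.1 h; have := h1.2 h'; omega
  · intro c _ d _ hcd
    rw [Function.onFun, Finset.disjoint_left]
    intro x hx hx'
    apply hcd
    rw [mem_image] at hx hx'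
    obtain ⟨y, hy, rfl⟩ := hx
    obtain ⟨y', hy', hyy⟩ := hx'
    unfold E at hy hy'
    rw [mem_filter, mem_Y_iff] at hy hy'
    ext i
    have h1 := hy.1.1 i
    have h2 := hy'.1.1 i
    have h3 := congrFun hyy i
    simp only [mem_box] at h1 h2 h3
    constructor
    · intro h; by_contra h'; have := h1.1 h; have := h2.2 h'; omega
    · intro h; by_contra h'; have := h2.1 h; have := h1.2 h'; omega
  · rw [Finset.disjoint_left]
    intro x hx hx'
    rw [mem_biUnion] at hx hx'
    obtain ⟨c, _, hx⟩ := hx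
    obtain ⟨d, _, hx'⟩ := hx'
    rw [mem_image] at hx
    obtain ⟨y, _, rfl⟩ := hx
    unfold Z at hx'
    rw [mem_Y_iff] at hx'
    have h := hx'.1 none
    simp only [mem_box] at h
    by_cases hd : (none : GolayPt) ∈ d
    · have := h.1 hd; omega
    · have := h.2 hd; omega

end Cfsg.Agent.Leech.Count
end

-- part: Leech/CountEval
section
set_option autoImplicit false

/-!
Numerical evaluation: the numbers of vectors of `leechSet` of norms 32, 48, 64 from the weight
distribution of the code.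
-/

namespace Cfsg.Agent.Leech.CountEval

open Finset Polynomial Cfsg Cfsg.Agent.Leech.Gen Cfsg.Agent.Leech.Norm Cfsg.Agent.Leech.Count

theorem box_odd : box 2 1 8 = {-7, -5, -3, -1, 1, 3, 5, 7} := by
  ext a
  simp only [mem_box, mem_insert, mem_singleton]
  constructor
  · rintro ⟨⟨h1, h2⟩, h3⟩
    push_cast at h1 h2
    omega
  · intro h
    push_cast
    omega

theorem box_even : box 2 0 8 = {-8, -6, -4, -2, 0, 2, 4, 6, 8} := by
  ext a
  simp only [mem_box, mem_insert, mem_singleton]
  constructor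
  · rintro ⟨⟨h1, h2⟩, h3⟩
    push_cast at h1 h2
    omega
  · intro h
    push_cast
    omega

theorem box_one : box 4 1 8 = {-7, -3, 1, 5} := by
  ext a
  simp only [mem_box, mem_insert, mem_singleton]
  constructor
  · rintro ⟨⟨h1, h2⟩, h3⟩
    push_cast at h1 h2
    omega
  · intro h
    push_cast
    omega

theorem eval_odd (B : ℕ) : (gf (box 2 1 8)).eval B = 2 * (B + B ^ 9 + B ^ 25 + B ^ 49) := by
  rw [box_odd]
  unfold gf
  simp
  ring

theorem eval_even (B : ℕ) : (gf (box 2 0 8)).eval B = 1 + 2 * (B ^ 4 + B ^ 16 + B ^ 36 + B ^ 64) := by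
  rw [box_even]
  unfold gf
  simp
  ring

theorem eval_one (B : ℕ) : (gf (box 4 1 8)).eval B = B + B ^ 9 + B ^ 25 + B ^ 49 := by
  rw [box_one]
  unfold gf
  simp
  ring

/-- the digit formula for even vectors, `B = 2 ^ 80` -/
def evenVal (w M : ℕ) : ℕ :=
  (2 * (2 ^ 80 + (2 ^ 80) ^ 9 + (2 ^ 80) ^ 25 + (2 ^ 80) ^ 49)) ^ w
    * (1 + 2 * ((2 ^ 80) ^ 4 + (2 ^ 80) ^ 16 + (2 ^ 80) ^ 36 + (2 ^ 80) ^ 64)) ^ (24 - w)
    / (2 ^ 80) ^ M % 2 ^ 80

def oddVal (N : ℕ) : ℕ :=
  (2 ^ 80 + (2 ^ 80) ^ 9 + (2 ^ 80) ^ 25 + (2 ^ 80) ^ 49) ^ 24 / (2 ^ 80) ^ N % 2 ^ 80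

theorem coeff_even (w M : ℕ) (hw : w ≤ 24) :
    (gf (box 2 1 8) ^ w * gf (box 2 0 8) ^ (24 - w)).coeff M = evenVal w M := by
  rw [coeff_eq_eval _ (2 ^ 80) M]
  · rw [eval_mul, eval_pow, eval_pow, eval_odd, eval_even]
    rfl
  · rw [eval_mul, eval_pow, eval_pow, eval_odd, eval_even]
    calc (2 * (1 + 1 ^ 9 + 1 ^ 25 + 1 ^ 49)) ^ w * (1 + 2 * (1 ^ 4 + 1 ^ 16 + 1 ^ 36 + 1 ^ 64)) ^ (24 - w)
        ≤ 9 ^ w * 9 ^ (24 - w) := Nat.mul_le_mul (Nat.pow_le_pow_left (by norm_num) w) (by norm_num)
      _ = 9 ^ 24 := by rw [← pow_add, Nat.add_sub_cancel' hw]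
      _ < 2 ^ 80 := by norm_num

theorem coeff_odd (N : ℕ) : (gf (box 4 1 8) ^ 24).coeff N = oddVal N := by
  rw [coeff_eq_eval _ (2 ^ 80) N]
  · rw [eval_pow, eval_one]
    rfl
  · rw [eval_pow, eval_one]
    norm_num

/-- twice the number of even vectors belonging to a code word of weight `w` -/
def evenTwice (w M : ℕ) : ℕ := if w = 0 then (if 8 ∣ M then 2 * evenVal 0 M else 0) else evenVal w M

theorem two_mul_card_E_eq (c : Finset GolayPt) (hc : 4 ∣ c.card) (M : ℕ) (hM : 4 ∣ M) :
    2 * (E 8 c M).card = evenTwice c.card M := by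
  unfold evenTwice
  rcases Finset.eq_empty_or_nonempty c with rfl | h
  · rw [card_E_empty hM, card_Y, if_pos Finset.card_empty, Finset.card_empty,
      coeff_even 0 M (Nat.zero_le _)]
    split_ifs <;> rfl
  · rw [two_mul_card_E h (dvd_trans (by norm_num) hc), card_Y,
      if_neg (Finset.card_pos.mpr h).ne', coeff_even]
    exact (Finset.card_le_univ c).trans (by simp [GolayPt])

theorem ncard_leechSet (C : Finset (Finset GolayPt)) (hC : ∀ c, c ∈ C ↔ c ∈ GS)
    (hw : ∀ c ∈ C, c.card = 0 ∨ c.card = 8 ∨ c.card = 12 ∨ c.card = 16 ∨ c.card = 24)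
    (h8 : (C.filter fun c => c.card = 8).card = 759)
    (h12 : (C.filter fun c => c.card = 12).card = 2576)
    (M : ℕ) (hM : 4 ∣ M) (hR : 4 * M < 81) :
    2 * {x : GolayPt → ℤ | x ∈ leechSet ∧ sqNorm x = ((4 * M : ℕ) : ℤ)}.ncard
      = (evenTwice 0 M + 759 * evenTwice 8 M + 2576 * evenTwice 12 M + 759 * evenTwice 16 M
        + evenTwice 24 M) + 2 * (4096 * oddVal (4 * M)) := by
  have hw4 : ∀ c ∈ C, 4 ∣ c.card := by
    intro c hc
    rcases hw c hc with h | h | h | h | h <;> rw [h] <;> norm_num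
  have hcompl : ∀ c, c ∈ C → cᶜ ∈ C := fun c hc => (hC _).mpr (compl_mem_GS ((hC c).mp hc))
  have hcard : Fintype.card GolayPt = 24 := by simp [GolayPt]
  have hcc : ∀ c : Finset GolayPt, cᶜ.card = 24 - c.card := fun c => by
    rw [Finset.card_compl, hcard]
  have hle : ∀ c : Finset GolayPt, c.card ≤ 24 := fun c => by
    rw [← hcard]; exact Finset.card_le_univ c
  have h16 : (C.filter fun c => c.card = 16).card = 759 := by
    rw [← h8]
    refine Finset.card_nbij' (fun c => cᶜ) (fun c => cᶜ) ?_ ?_ (fun c _ => compl_compl c)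
      (fun c _ => compl_compl c)
    · intro c hc
      simp only [coe_filter, Set.mem_ofPred_eq] at hc ⊢
      exact ⟨hcompl c hc.1, by rw [hcc, hc.2]⟩
    · intro c hc
      simp only [coe_filter, Set.mem_ofPred_eq] at hc ⊢
      exact ⟨hcompl c hc.1, by rw [hcc, hc.2]⟩
  have h0 : (C.filter fun c => c.card = 0).card = 1 := by
    rw [Finset.card_eq_one]
    refine ⟨∅, ?_⟩
    ext c
    simp only [mem_filter, mem_singleton, Finset.card_eq_zero]
    constructor
    · exact fun h => h.2
    · rintro rfl; exact ⟨(hC _).mpr empty_mem_GS, rfl⟩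
  have h24 : (C.filter fun c => c.card = 24).card = 1 := by
    rw [Finset.card_eq_one]
    refine ⟨Finset.univ, ?_⟩
    ext c
    simp only [mem_filter, mem_singleton]
    constructor
    · rintro ⟨-, h⟩
      rw [← Finset.card_eq_iff_eq_univ, h, hcard]
    · rintro rfl; exact ⟨(hC _).mpr univ_mem_GS, by rw [Finset.card_univ, hcard]⟩
  have hmaps : ∀ c ∈ C, c.card ∈ ({0, 8, 12, 16, 24} : Finset ℕ) := by
    intro c hc
    simp only [mem_insert, mem_singleton]
    exact hw c hc
  have hsum : ∀ g : ℕ → ℕ, ∑ c ∈ C, g c.card = g 0 + 759 * g 8 + 2576 * g 12 + 759 * g 16 + g 24 := by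
    intro g
    rw [← Finset.sum_fiberwise_of_maps_to hmaps]
    have : ∀ j ∈ ({0, 8, 12, 16, 24} : Finset ℕ), ∑ c ∈ C with c.card = j, g c.card
        = (C.filter fun c => c.card = j).card * g j := by
      intro j _
      rw [Finset.sum_congr rfl (g := fun _ => g j), Finset.sum_const, smul_eq_mul]
      intro c hc
      rw [(mem_filter.mp hc).2]
    rw [Finset.sum_congr rfl this]
    rw [Finset.sum_insert (by decide), Finset.sum_insert (by decide), Finset.sum_insert (by decide),
      Finset.sum_insert (by decide), Finset.sum_singleton, h0, h8, h12, h16, h24]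
    ring
  have hCcard : C.card = 4096 := by
    have := hsum (fun _ => 1)
    simpa using this
  rw [ncard_leechSet_norm C hC hw4 M 8 hM (by norm_num; omega), mul_add, Finset.mul_sum,
    Finset.sum_congr rfl (fun c hc => two_mul_card_E_eq c (hw4 c hc) M hM),
    hsum (fun w => evenTwice w M), hCcard, coeff_odd]

theorem count32 (C : Finset (Finset GolayPt)) (hC : ∀ c, c ∈ C ↔ c ∈ GS)
    (hw : ∀ c ∈ C, c.card = 0 ∨ c.card = 8 ∨ c.card = 12 ∨ c.card = 16 ∨ c.card = 24)
    (h8 : (C.filter fun c => c.card = 8).card = 759)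
    (h12 : (C.filter fun c => c.card = 12).card = 2576) :
    {x : GolayPt → ℤ | x ∈ leechSet ∧ sqNorm x = 32}.ncard = 196560 := by
  have h := ncard_leechSet C hC hw h8 h12 8 (by norm_num) (by norm_num)
  have h2 : (evenTwice 0 8 + 759 * evenTwice 8 8 + 2576 * evenTwice 12 8 + 759 * evenTwice 16 8
        + evenTwice 24 8) + 2 * (4096 * oddVal (4 * 8)) = 2 * 196560 := by decide +kernel
  rw [h2] at h
  exact Nat.eq_of_mul_eq_mul_left (by norm_num) h

theorem count48 (C : Finset (Finset GolayPt)) (hC : ∀ c, c ∈ C ↔ c ∈ GS)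
    (hw : ∀ c ∈ C, c.card = 0 ∨ c.card = 8 ∨ c.card = 12 ∨ c.card = 16 ∨ c.card = 24)
    (h8 : (C.filter fun c => c.card = 8).card = 759)
    (h12 : (C.filter fun c => c.card = 12).card = 2576) :
    {x : GolayPt → ℤ | x ∈ leechSet ∧ sqNorm x = 48}.ncard = 16773120 := by
  have h := ncard_leechSet C hC hw h8 h12 12 (by norm_num) (by norm_num)
  have h2 : (evenTwice 0 12 + 759 * evenTwice 8 12 + 2576 * evenTwice 12 12 + 759 * evenTwice 16 12
        + evenTwice 24 12) + 2 * (4096 * oddVal (4 * 12)) = 2 * 16773120 := by decide +kernel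
  rw [h2] at h
  exact Nat.eq_of_mul_eq_mul_left (by norm_num) h

theorem count64 (C : Finset (Finset GolayPt)) (hC : ∀ c, c ∈ C ↔ c ∈ GS)
    (hw : ∀ c ∈ C, c.card = 0 ∨ c.card = 8 ∨ c.card = 12 ∨ c.card = 16 ∨ c.card = 24)
    (h8 : (C.filter fun c => c.card = 8).card = 759)
    (h12 : (C.filter fun c => c.card = 12).card = 2576) :
    {x : GolayPt → ℤ | x ∈ leechSet ∧ sqNorm x = 64}.ncard = 398034000 := by
  have h := ncard_leechSet C hC hw h8 h12 16 (by norm_num) (by norm_num)
  have h2 : (evenTwice 0 16 + 759 * evenTwice 8 16 + 2576 * evenTwice 12 16 + 759 * evenTwice 16 16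
        + evenTwice 24 16) + 2 * (4096 * oddVal (4 * 16)) = 2 * 398034000 := by decide +kernel
  rw [h2] at h
  exact Nat.eq_of_mul_eq_mul_left (by norm_num) h

end Cfsg.Agent.Leech.CountEval
end

-- part: Leech/CountFinal
section
set_option autoImplicit false

/-!
The finite set of code word supports with its weight distribution, and the numbers of lattice vectors
of norms 32, 48, 64.
-/

namespace Cfsg.Agent.Leech.CountFinal

open Finset Cfsg Cfsg.Agent.Leech.Norm Cfsg.Agent.Leech.CountEval

open Classical in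
/-- the supports of the code words as a finite set -/
noncomputable def codeFin : Finset (Finset GolayPt) := Finset.univ.filter fun c => c ∈ GS

theorem mem_codeFin (c : Finset GolayPt) : c ∈ codeFin ↔ c ∈ GS := by
  classical
  simp [codeFin]

theorem weight_codeFin : ∀ c ∈ codeFin,
    c.card = 0 ∨ c.card = 8 ∨ c.card = 12 ∨ c.card = 16 ∨ c.card = 24 := by
  intro c hc
  rw [mem_codeFin] at hc
  obtain ⟨w, hw, rfl⟩ := hc
  exact Cfsg.Agent.SporadicA.GolayWeight.weight_cases hw

theorem card_filter_codeFin (n : ℕ) :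
    (codeFin.filter fun c => c.card = n).card = (wordsOfWeight (golayCode : Set (GolayPt → ZMod 2)) n).ncard := by
  rw [← Set.ncard_coe_finset]
  congr 1
  ext c
  simp only [coe_filter, Set.mem_ofPred_eq, mem_codeFin]
  exact Iff.rfl

theorem card_codeFin_eight : (codeFin.filter fun c => c.card = 8).card = 759 := by
  rw [card_filter_codeFin]
  exact Cfsg.Agent.SporadicA.GolayCount.octads_ncard

theorem card_codeFin_twelve : (codeFin.filter fun c => c.card = 12).card = 2576 := by
  rw [card_filter_codeFin]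
  exact Cfsg.Agent.SporadicA.GolayCount.dodecads_ncard

theorem set_eq (N : ℤ) : {x : GolayPt → ℤ | x ∈ leechLattice ∧ sqNorm x = N}
    = {x : GolayPt → ℤ | x ∈ leechSet ∧ sqNorm x = N} := by
  ext x
  simp only [Set.mem_ofPred_eq, Cfsg.Agent.SporadicA.LeechSet.mem_leechLattice_iff]

theorem ncard32 : {x : GolayPt → ℤ | x ∈ leechLattice ∧ sqNorm x = 32}.ncard = 196560 := by
  rw [set_eq]
  exact count32 codeFin mem_codeFin weight_codeFin card_codeFin_eight card_codeFin_twelve

theorem ncard48 : {x : GolayPt → ℤ | x ∈ leechLattice ∧ sqNorm x = 48}.ncard = 16773120 := by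
  rw [set_eq]
  exact count48 codeFin mem_codeFin weight_codeFin card_codeFin_eight card_codeFin_twelve

theorem ncard64 : {x : GolayPt → ℤ | x ∈ leechLattice ∧ sqNorm x = 64}.ncard = 398034000 := by
  rw [set_eq]
  exact count64 codeFin mem_codeFin weight_codeFin card_codeFin_eight card_codeFin_twelve

end Cfsg.Agent.Leech.CountFinal
end
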