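import Cfsg.Agent.Leech.Basic
set_option linter.all false

/-!
Elements of `Co0`: sign changes on code words, permutations in `M24`, and Conway's maps attached
to a sextet with a chosen tetrad.
-/

set_option autoImplicit false

namespace Cfsg.Agent.Leech.Co0Elts

open Cfsg Cfsg.Agent.Leech.Code Cfsg.Agent.Leech.Basic

/-- Constructor for elements of `Co0` from a pair of mutually inverse maps of `ℤ^24` that preserve
the lattice, are additive on it and preserve the norm on it. -/
def mkCo0 (F G : (GolayPt → ℤ) → (GolayPt → ℤ))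
    (hF : ∀ x ∈ leechLattice, F x ∈ leechLattice) (hG : ∀ x ∈ leechLattice, G x ∈ leechLattice)
    (hGF : ∀ x ∈ leechLattice, G (F x) = x) (hFG : ∀ x ∈ leechLattice, F (G x) = x)
    (hadd : ∀ x ∈ leechLattice, ∀ y ∈ leechLattice, F (x + y) = F x + F y)
    (hnorm : ∀ x ∈ leechLattice, sqNorm (F x) = sqNorm x) : ↥Co0 :=
  ⟨{ toFun := fun x => ⟨F x, hF x x.2⟩
     invFun := fun x => ⟨G x, hG x x.2⟩
     left_inv := fun x => Subtype.ext (hGF x x.2)
     right_inv := fun x => Subtype.ext (hFG x x.2) },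
   fun v w => Subtype.ext (hadd v v.2 w w.2), fun v => hnorm v v.2⟩

theorem mkCo0_coe (F G : (GolayPt → ℤ) → (GolayPt → ℤ))
    (hF : ∀ x ∈ leechLattice, F x ∈ leechLattice) (hG : ∀ x ∈ leechLattice, G x ∈ leechLattice)
    (hGF : ∀ x ∈ leechLattice, G (F x) = x) (hFG : ∀ x ∈ leechLattice, F (G x) = x)
    (hadd : ∀ x ∈ leechLattice, ∀ y ∈ leechLattice, F (x + y) = F x + F y)
    (hnorm : ∀ x ∈ leechLattice, sqNorm (F x) = sqNorm x) (v : leechLattice) :
    ((mkCo0 F G hF hG hGF hFG hadd hnorm • v : leechLattice) : GolayPt → ℤ) = F v := rfl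

/-- Elements of `Co0` preserve inner products. -/
theorem dotInt_smul (g : ↥Co0) (v w : leechLattice) :
    dotInt ((g • v : leechLattice) : GolayPt → ℤ) ((g • w : leechLattice) : GolayPt → ℤ) =
      dotInt (v : GolayPt → ℤ) (w : GolayPt → ℤ) := by
  have hadd : (g • (v + w) : leechLattice) = g • v + g • w := g.2.1 v w
  have h1 : sqNorm ((g • (v + w) : leechLattice) : GolayPt → ℤ) =
      sqNorm ((v + w : leechLattice) : GolayPt → ℤ) := g.2.2 (v + w)
  have h2 : sqNorm ((g • v : leechLattice) : GolayPt → ℤ) = sqNorm (v : GolayPt → ℤ) := g.2.2 v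
  have h3 : sqNorm ((g • w : leechLattice) : GolayPt → ℤ) = sqNorm (w : GolayPt → ℤ) := g.2.2 w
  rw [hadd, AddSubgroup.coe_add, AddSubgroup.coe_add, sqNorm_add, sqNorm_add] at h1
  linarith

theorem sqNorm_smul (g : ↥Co0) (v : leechLattice) :
    sqNorm ((g • v : leechLattice) : GolayPt → ℤ) = sqNorm (v : GolayPt → ℤ) := g.2.2 v

theorem smul_add_co0 (g : ↥Co0) (v w : leechLattice) : g • (v + w) = g • v + g • w := g.2.1 v w

theorem smul_neg_co0 (g : ↥Co0) (v : leechLattice) : g • (-v) = -(g • v) := by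
  have h0 : g • (0 : leechLattice) = 0 := by
    have := smul_add_co0 g 0 0
    rw [add_zero] at this
    simpa using this
  have := smul_add_co0 g v (-v)
  rw [add_neg_cancel, h0] at this
  exact (neg_eq_of_add_eq_zero_right this.symm).symm

/-! ### Sign changes -/

/-- Sign change on a set of points. -/
def sgnMap (c : Finset GolayPt) (x : GolayPt → ℤ) : GolayPt → ℤ := fun i => if i ∈ c then -x i else x i

theorem sgnMap_apply (c : Finset GolayPt) (x : GolayPt → ℤ) (i : GolayPt) :
    sgnMap c x i = if i ∈ c then -x i else x i := rfl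

theorem sgnMap_sgnMap (c : Finset GolayPt) (x : GolayPt → ℤ) : sgnMap c (sgnMap c x) = x := by
  funext i
  rw [sgnMap_apply, sgnMap_apply]
  split_ifs <;> simp

theorem sgnMap_add (c : Finset GolayPt) (x y : GolayPt → ℤ) :
    sgnMap c (x + y) = sgnMap c x + sgnMap c y := by
  funext i
  simp only [sgnMap_apply, Pi.add_apply]
  split_ifs <;> ring

theorem sqNorm_sgnMap (c : Finset GolayPt) (x : GolayPt → ℤ) : sqNorm (sgnMap c x) = sqNorm x :=
  Finset.sum_congr rfl fun i _ => by rw [sgnMap_apply]; split_ifs <;> ring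

theorem sum_sgnMap (c d : Finset GolayPt) (x : GolayPt → ℤ) :
    ∑ i ∈ d, sgnMap c x i = ∑ i ∈ d, x i - 2 * ∑ i ∈ d ∩ c, x i := by
  have h : ∀ i, sgnMap c x i = x i - 2 * (if i ∈ c then x i else 0) := fun i => by
    rw [sgnMap_apply]; split_ifs <;> ring
  simp only [h, Finset.sum_sub_distrib, ← Finset.mul_sum, Finset.sum_ite_mem]

theorem sum_of_par {m : ℤ} {x : GolayPt → ℤ} (hpar : ∀ i, x i ≡ m [ZMOD 2]) (d : Finset GolayPt) :
    ∑ i ∈ d, x i ≡ m * d.card [ZMOD 2] := by
  have : ∑ i ∈ d, x i ≡ ∑ _i ∈ d, m [ZMOD 2] := by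
    classical
    induction d using Finset.induction_on with
    | empty => simp
    | insert a s ha ih =>
      rw [Finset.sum_insert ha, Finset.sum_insert ha]
      exact (hpar a).add ih
  rwa [Finset.sum_const, nsmul_eq_mul, mul_comm] at this

theorem isLeech_sgnMap {m : ℤ} {x : GolayPt → ℤ} (h : IsLeech m x) {c : Finset GolayPt}
    (hc : c ∈ Words) : IsLeech m (sgnMap c x) := by
  refine ⟨fun i => ?_, ?_, fun d hd => ?_⟩
  · have := h.par i
    rw [sgnMap_apply]
    unfold Int.ModEq at *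
    split_ifs <;> omega
  · rw [sum_sgnMap, Finset.univ_inter]
    have h1 := h.sum
    have h2 := h.code c hc
    unfold Int.ModEq at *
    omega
  · rw [sum_sgnMap]
    have h1 := h.code d hd
    have h2 := sum_of_par h.par (d ∩ c)
    obtain ⟨r, hr⟩ := even_inter hd hc
    rw [hr] at h2
    push_cast at h2
    have h3 : m * ((r : ℤ) + r) = 2 * (m * r) := by ring
    rw [h3] at h2
    unfold Int.ModEq at *
    omega

theorem sgnMap_mem {x : GolayPt → ℤ} (hx : x ∈ leechLattice) {c : Finset GolayPt}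
    (hc : c ∈ Words) : sgnMap c x ∈ leechLattice := by
  obtain ⟨m, hm⟩ := (mem_leech_iff_isLeech x).1 hx
  exact (isLeech_sgnMap hm hc).mem

/-- The sign change on a code word, as an element of `Co0`. -/
def sgn (c : Finset GolayPt) (hc : c ∈ Words) : ↥Co0 :=
  mkCo0 (sgnMap c) (sgnMap c) (fun _ hx => sgnMap_mem hx hc) (fun _ hx => sgnMap_mem hx hc)
    (fun x _ => sgnMap_sgnMap c x) (fun x _ => sgnMap_sgnMap c x) (fun x _ y _ => sgnMap_add c x y)
    (fun x _ => sqNorm_sgnMap c x)

theorem sgn_coe (c : Finset GolayPt) (hc : c ∈ Words) (v : leechLattice) :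
    ((sgn c hc • v : leechLattice) : GolayPt → ℤ) = sgnMap c v := rfl

/-! ### Permutations in `M24` -/

/-- Coordinate permutation `x ↦ x ∘ σ⁻¹`. -/
def permMap (σ : Equiv.Perm GolayPt) (x : GolayPt → ℤ) : GolayPt → ℤ := fun i => x (σ.symm i)

theorem permMap_apply (σ : Equiv.Perm GolayPt) (x : GolayPt → ℤ) (i : GolayPt) :
    permMap σ x i = x (σ.symm i) := rfl

open scoped Pointwise in
theorem smul_mem_words {σ : Equiv.Perm GolayPt} (hσ : σ ∈ M24) {c : Finset GolayPt}
    (hc : c ∈ Words) : σ • c ∈ Words := by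
  have h : σ • Words = Words := hσ
  rw [← h]
  exact Set.smul_mem_smul_set hc

open scoped Pointwise in
theorem sum_permMap (σ : Equiv.Perm GolayPt) (d : Finset GolayPt) (x : GolayPt → ℤ) :
    ∑ i ∈ d, permMap σ x i = ∑ i ∈ σ⁻¹ • d, x i := by
  refine Finset.sum_bij (fun i _ => σ⁻¹ i) (fun i hi => ?_) (fun i _ j _ hij => ?_) (fun j hj => ?_)
    (fun i _ => rfl)
  · exact Finset.smul_mem_smul_finset hi
  · exact (σ⁻¹).injective hij
  · rw [Finset.mem_smul_finset] at hj
    obtain ⟨i, hi, rfl⟩ := hj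
    exact ⟨i, hi, rfl⟩

theorem isLeech_permMap {m : ℤ} {x : GolayPt → ℤ} (h : IsLeech m x) {σ : Equiv.Perm GolayPt}
    (hσ : σ ∈ M24) : IsLeech m (permMap σ x) := by
  refine ⟨fun i => h.par _, ?_, fun d hd => ?_⟩
  · have : ∑ i, permMap σ x i = ∑ i, x i := Equiv.sum_comp σ.symm x
    rw [this]; exact h.sum
  · rw [sum_permMap]
    exact h.code _ (smul_mem_words (M24.inv_mem hσ) hd)

theorem permMap_mem {x : GolayPt → ℤ} (hx : x ∈ leechLattice) {σ : Equiv.Perm GolayPt}
    (hσ : σ ∈ M24) : permMap σ x ∈ leechLattice := by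
  obtain ⟨m, hm⟩ := (mem_leech_iff_isLeech x).1 hx
  exact (isLeech_permMap hm hσ).mem

theorem sqNorm_permMap (σ : Equiv.Perm GolayPt) (x : GolayPt → ℤ) :
    sqNorm (permMap σ x) = sqNorm x :=
  Equiv.sum_comp σ.symm fun i => x i ^ 2

/-- A permutation in `M24`, as an element of `Co0`. -/
def perm (σ : Equiv.Perm GolayPt) (hσ : σ ∈ M24) : ↥Co0 :=
  mkCo0 (permMap σ) (permMap σ⁻¹) (fun _ hx => permMap_mem hx hσ)
    (fun _ hx => permMap_mem hx (M24.inv_mem hσ))
    (fun x _ => by
      funext i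
      change x (σ.symm (σ i)) = x i
      rw [Equiv.symm_apply_apply])
    (fun x _ => by
      funext i
      change x (σ (σ.symm i)) = x i
      rw [Equiv.apply_symm_apply])
    (fun x _ y _ => rfl) (fun x _ => sqNorm_permMap σ x)

theorem perm_coe (σ : Equiv.Perm GolayPt) (hσ : σ ∈ M24) (v : leechLattice) :
    ((perm σ hσ • v : leechLattice) : GolayPt → ℤ) = permMap σ v := rfl

end Cfsg.Agent.Leech.Co0Elts
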