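import Cfsg.Agent.Leech.Basic
set_option linter.all false

/-!
Classification of the vectors of norm 32 (the minimal vectors) of the Leech lattice.
-/

set_option autoImplicit false

namespace Cfsg.Agent.Leech.Min

open Cfsg Cfsg.Agent.Leech.Code Cfsg.Agent.Leech.Basic

/-- Vectors of shape `(±4, ±4, 0^22)`. -/
def Type4 (x : GolayPt → ℤ) : Prop :=
  ∃ p q, p ≠ q ∧ (x p = 4 ∨ x p = -4) ∧ (x q = 4 ∨ x q = -4) ∧ ∀ i, i ≠ p → i ≠ q → x i = 0

/-- Vectors of shape `(±2^8, 0^16)`, supported on an octad, with evenly many minus signs. -/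
def Type2 (x : GolayPt → ℤ) : Prop :=
  ∃ A ∈ octads, (∀ i ∈ A, x i = 2 ∨ x i = -2) ∧ (∀ i, i ∉ A → x i = 0) ∧
    Even (A.filter fun i => x i = -2).card

/-- Vectors of shape `(∓3, ±1^23)`, with the positions congruent to 1 modulo 4 a code word. -/
def Type3 (x : GolayPt → ℤ) : Prop :=
  ∃ p, (x p = 3 ∨ x p = -3) ∧ (∀ i, i ≠ p → x i = 1 ∨ x i = -1) ∧ cls x 1 ∈ Words

theorem even_sqNorm_ge {x a : GolayPt → ℤ} {A : Finset GolayPt}
    (hx : ∀ i, x i = 0 + 2 * chi A i + 4 * a i) : 4 * (A.card : ℤ) ≤ sqNorm x := by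
  have h1 : ∑ i, 4 * chi A i ≤ sqNorm x := Finset.sum_le_sum fun i _ => even_cls_card_le hx i
  rwa [← Finset.mul_sum, sum_chi] at h1

theorem isLeech_of_type4 {x : GolayPt → ℤ} (h : Type4 x) : IsLeech 0 x := by
  obtain ⟨p, q, hpq, hp, hq, h0⟩ := h
  have h4 : ∀ i, x i % 4 = 0 := by
    intro i
    by_cases hip : i = p
    · subst hip; omega
    · by_cases hiq : i = q
      · subst hiq; omega
      · rw [h0 i hip hiq]; rfl
  refine isLeech_of_cls (fun i => ?_) ?_ ?_
  · have := h4 i; unfold Int.ModEq; omega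
  · rw [Finset.sum_eq_add p q hpq (fun i _ hi => h0 i hi.1 hi.2)
      (fun h => absurd (Finset.mem_univ _) h) (fun h => absurd (Finset.mem_univ _) h)]
    unfold Int.ModEq; omega
  · have : cls x 0 = Finset.univ := by
      ext i
      have := h4 i
      rw [mem_cls]
      unfold Int.ModEq
      simp only [Finset.mem_univ, iff_true]
      omega
    rw [this]; exact univ_mem

theorem sqNorm_of_type4 {x : GolayPt → ℤ} (h : Type4 x) : sqNorm x = 32 := by
  obtain ⟨p, q, hpq, hp, hq, h0⟩ := h
  unfold sqNorm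
  rw [Finset.sum_eq_add p q hpq (fun i _ hi => by rw [h0 i hi.1 hi.2]; rfl)
      (fun h => absurd (Finset.mem_univ _) h) (fun h => absurd (Finset.mem_univ _) h)]
  rcases hp with hp | hp <;> rcases hq with hq | hq <;> rw [hp, hq] <;> norm_num

theorem type2_eq {x : GolayPt → ℤ} {A : Finset GolayPt} (hA : ∀ i ∈ A, x i = 2 ∨ x i = -2)
    (h0 : ∀ i, i ∉ A → x i = 0) (i : GolayPt) :
    x i = 0 + 2 * chi A i + 4 * (-chi (A.filter fun i => x i = -2) i) := by
  by_cases hi : i ∈ A
  · rw [chi_mem hi]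
    rcases hA i hi with h | h
    · rw [chi_not_mem (by rw [Finset.mem_filter]; intro h'; omega)]; omega
    · rw [chi_mem (by rw [Finset.mem_filter]; exact ⟨hi, h⟩)]; omega
  · rw [chi_not_mem hi, chi_not_mem (by rw [Finset.mem_filter]; tauto), h0 i hi]; rfl

theorem isLeech_of_type2 {x : GolayPt → ℤ} (h : Type2 x) : IsLeech 0 x := by
  obtain ⟨A, hA, h2, h0, hev⟩ := h
  have hform := type2_eq h2 h0
  have hcls : cls x 0 = Aᶜ := by
    ext i
    rw [mem_cls, Finset.mem_compl]
    unfold Int.ModEq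
    constructor
    · intro h hi; rcases h2 i hi with h' | h' <;> omega
    · intro hi; rw [h0 i hi]
  refine isLeech_of_cls (fun i => ?_) ?_ ?_
  · unfold Int.ModEq
    have := hform i
    omega
  · have e : ∑ i, x i = ∑ i, (0 + 2 * chi A i + 4 * (-chi (A.filter fun i => x i = -2) i)) :=
      Finset.sum_congr rfl fun i _ => hform i
    rw [e]
    simp only [Finset.sum_add_distrib, ← Finset.mul_sum, Finset.sum_neg_distrib, sum_chi]
    obtain ⟨r, hr⟩ := hev
    have h8 : A.card = 8 := hA.2
    rw [hr, h8]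
    simp only [Finset.sum_const_zero]
    unfold Int.ModEq
    push_cast
    omega
  · rw [hcls]; exact compl_mem hA.1

theorem sqNorm_of_type2 {x : GolayPt → ℤ} (h : Type2 x) : sqNorm x = 32 := by
  obtain ⟨A, hA, h2, h0, -⟩ := h
  have e : ∀ i, x i ^ 2 = 4 * chi A i := by
    intro i
    by_cases hi : i ∈ A
    · rw [chi_mem hi]; rcases h2 i hi with h | h <;> rw [h] <;> norm_num
    · rw [chi_not_mem hi, h0 i hi]; norm_num
  unfold sqNorm
  simp only [e, ← Finset.mul_sum, sum_chi]
  have h8 : A.card = 8 := hA.2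
  rw [h8]; norm_num

theorem type3_odd {x : GolayPt → ℤ} (h : Type3 x) (i : GolayPt) : x i % 2 = 1 := by
  obtain ⟨p, hp, h1, -⟩ := h
  by_cases hip : i = p
  · subst hip; omega
  · have := h1 i hip; omega

theorem isLeech_of_type3 {x : GolayPt → ℤ} (h : Type3 x) : IsLeech 1 x := by
  have hodd := type3_odd h
  obtain ⟨p, hp, h1, hW⟩ := h
  refine isLeech_of_cls (fun i => by unfold Int.ModEq; have := hodd i; omega) ?_ hW
  -- `x = 2 χ_A - 1 - 4 ε χ_p`, `A = cls x 1`
  set A := cls x 1 with hA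
  have e : ∀ i, x i = (2 * chi A i - 1) + (if i = p then x p - (2 * chi A p - 1) else 0) := by
    intro i
    by_cases hip : i = p
    · subst hip; rw [if_pos rfl]; ring
    · rw [if_neg hip]
      rcases h1 i hip with h | h
      · have : i ∈ A := by rw [hA, mem_cls, h]
        rw [chi_mem this, h]; norm_num
      · have : i ∉ A := by rw [hA, mem_cls, h]; decide
        rw [chi_not_mem this, h]; norm_num
  have e2 : ∑ i, x i = ∑ i, ((2 * chi A i - 1) + (if i = p then x p - (2 * chi A p - 1) else 0)) :=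
    Finset.sum_congr rfl fun i _ => e i
  rw [e2]
  simp only [Finset.sum_add_distrib, Finset.sum_sub_distrib, ← Finset.mul_sum, sum_chi,
    Finset.sum_ite_eq', Finset.mem_univ, if_true, Finset.sum_const, Finset.card_univ, card_golayPt]
  obtain ⟨k, hk⟩ := four_dvd_card hW
  rw [hk]
  have hpA : (p ∈ A ∧ x p = -3) ∨ (p ∉ A ∧ x p = 3) := by
    rcases hp with h | h
    · right; refine ⟨?_, h⟩; rw [hA, mem_cls, h]; decide
    · left; refine ⟨?_, h⟩; rw [hA, mem_cls, h]; decide
  unfold Int.ModEq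
  rcases hpA with ⟨h, h'⟩ | ⟨h, h'⟩
  · rw [chi_mem h, h']; push_cast; simp; omega
  · rw [chi_not_mem h, h']; push_cast; simp; omega

theorem sqNorm_of_type3 {x : GolayPt → ℤ} (h : Type3 x) : sqNorm x = 32 := by
  obtain ⟨p, hp, h1, -⟩ := h
  have e : ∀ i, x i ^ 2 = 1 + (if i = p then 8 else 0) := by
    intro i
    by_cases hip : i = p
    · subst hip; rw [if_pos rfl]; rcases hp with h | h <;> rw [h] <;> norm_num
    · rw [if_neg hip]; rcases h1 i hip with h | h <;> rw [h] <;> norm_num
  unfold sqNorm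
  simp only [e, Finset.sum_add_distrib, Finset.sum_ite_eq', Finset.mem_univ, if_true,
    Finset.sum_const, Finset.card_univ, card_golayPt]
  norm_num

theorem type4_or_type2 {x : GolayPt → ℤ} (h : IsLeech 0 x) (hn : sqNorm x = 32) :
    Type4 x ∨ Type2 x := by
  obtain ⟨A, hA, a, ha, hsa⟩ := exists_form h (Or.inl rfl)
  have hle := even_sqNorm_ge ha
  rw [hn] at hle
  by_cases hAe : A = ∅
  · left
    subst hAe
    have hx4 : ∀ i, x i = 4 * a i := fun i => by rw [ha i, chi_not_mem (Finset.notMem_empty i)]; ring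
    have hN : sqNorm x = 16 * ∑ i, a i ^ 2 := by
      unfold sqNorm
      rw [Finset.mul_sum]
      exact Finset.sum_congr rfl fun i _ => by rw [hx4 i]; ring
    have h2 : ∑ i, a i ^ 2 = 2 := by omega
    obtain ⟨p, q, hpq, hp, hq, h0⟩ := exists_of_sum_eq_two (fun i => sq_nonneg (a i))
      (fun i hi => by
        have h1 : a i ≤ 1 := by nlinarith
        have h2 : -1 ≤ a i := by nlinarith
        have : a i = -1 ∨ a i = 0 ∨ a i = 1 := by omega
        rcases this with h | h | h <;> rw [h] at hi <;> norm_num at hi) h2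
    refine ⟨p, q, hpq, ?_, ?_, fun i hip hiq => ?_⟩
    · rcases mul_self_eq_one_iff.1 ((sq (a p)).symm.trans hp) with h | h
      · left; rw [hx4, h]; rfl
      · right; rw [hx4, h]; rfl
    · rcases mul_self_eq_one_iff.1 ((sq (a q)).symm.trans hq) with h | h
      · left; rw [hx4, h]; rfl
      · right; rw [hx4, h]; rfl
    · have := pow_eq_zero_iff (two_ne_zero) |>.1 (h0 i hip hiq)
      rw [hx4, this]; rfl
  · right
    have h8 := eight_le_card hA (Finset.nonempty_iff_ne_empty.2 hAe)
    have hc : A.card = 8 := by omega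
    have heq : ∑ i, 4 * chi A i = ∑ i, x i ^ 2 := by
      rw [← Finset.mul_sum, sum_chi, hc]
      exact hn.symm
    have hpt := (Finset.sum_eq_sum_iff_of_le fun i _ => even_cls_card_le ha i).1 heq
    have h2 : ∀ i ∈ A, x i = 2 ∨ x i = -2 := fun i hi => by
      have := hpt i (Finset.mem_univ i)
      rw [chi_mem hi] at this
      have h' : x i * x i = 2 * 2 := by nlinarith
      rcases mul_self_eq_mul_self_iff.1 h' with h | h
      · exact Or.inl h
      · exact Or.inr h
    have h0 : ∀ i, i ∉ A → x i = 0 := fun i hi => by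
      have := hpt i (Finset.mem_univ i)
      rw [chi_not_mem hi, mul_zero] at this
      exact pow_eq_zero_iff (two_ne_zero) |>.1 this.symm
    refine ⟨A, ⟨hA, hc⟩, h2, h0, ?_⟩
    have hform := type2_eq h2 h0
    have e : ∑ i, x i = ∑ i, (0 + 2 * chi A i + 4 * (-chi (A.filter fun i => x i = -2) i)) :=
      Finset.sum_congr rfl fun i _ => hform i
    have hs := h.sum
    rw [e] at hs
    simp only [Finset.sum_add_distrib, ← Finset.mul_sum, Finset.sum_neg_distrib, sum_chi,
      Finset.sum_const_zero, hc] at hs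
    rw [Nat.even_iff]
    unfold Int.ModEq at hs
    omega

theorem type3_of {x : GolayPt → ℤ} (h : IsLeech 1 x) (hn : sqNorm x = 32) : Type3 x := by
  have hodd : ∀ i, x i % 2 = 1 := fun i => by have := h.par i; unfold Int.ModEq at this; omega
  choose k hk using fun i => (Int.odd_iff.2 (hodd i))
  -- x i = 2 k i + 1, x i ^ 2 = 4 k (k+1) + 1
  have hev : ∀ i, ∃ r, k i * (k i + 1) = 2 * r := fun i => by
    obtain ⟨r, hr⟩ := Int.even_mul_succ_self (k i)
    exact ⟨r, by omega⟩
  choose r hr using hev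
  have hsq : ∀ i, x i ^ 2 = 1 + 8 * r i := fun i => by
    rw [hk i]
    have := hr i
    nlinarith
  have hrnn : ∀ i, 0 ≤ r i := fun i => by
    have h1 := sq_nonneg (x i)
    have := hsq i
    omega
  have hsum : ∑ i, r i = 1 := by
    have : sqNorm x = ∑ i, (1 + 8 * r i) := Finset.sum_congr rfl fun i _ => hsq i
    rw [this, Finset.sum_add_distrib, ← Finset.mul_sum, Finset.sum_const, Finset.card_univ,
      card_golayPt] at hn
    have e24 : (24 : ℕ) • (1 : ℤ) = 24 := by norm_num
    rw [e24] at hn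
    omega
  obtain ⟨p, hp, h0⟩ := exists_of_sum_eq_one hrnn hsum
  refine ⟨p, ?_, fun i hi => ?_, cls_mem_of_isLeech h⟩
  · have h1 := hsq p
    rw [hp] at h1
    have h' : x p * x p = 3 * 3 := by nlinarith
    rcases mul_self_eq_mul_self_iff.1 h' with h | h
    · exact Or.inl h
    · exact Or.inr h
  · have h1 := hsq i
    rw [h0 i hi] at h1
    have h' : x i * x i = 1 * 1 := by nlinarith
    rcases mul_self_eq_mul_self_iff.1 h' with h | h
    · exact Or.inl h
    · exact Or.inr h

/-- The classification of the minimal vectors of the Leech lattice. -/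
theorem min_iff (x : GolayPt → ℤ) :
    (x ∈ leechLattice ∧ sqNorm x = 32) ↔ (Type4 x ∨ Type2 x ∨ Type3 x) := by
  constructor
  · rintro ⟨hx, hn⟩
    rcases isLeech_zero_or_one hx with h | h
    · rcases type4_or_type2 h hn with h | h
      · exact Or.inl h
      · exact Or.inr (Or.inl h)
    · exact Or.inr (Or.inr (type3_of h hn))
  · rintro (h | h | h)
    · exact ⟨(isLeech_of_type4 h).mem, sqNorm_of_type4 h⟩
    · exact ⟨(isLeech_of_type2 h).mem, sqNorm_of_type2 h⟩
    · exact ⟨(isLeech_of_type3 h).mem, sqNorm_of_type3 h⟩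

theorem type4_of_coord {x : GolayPt → ℤ} (hx : x ∈ leechLattice) (hn : sqNorm x = 32)
    {i : GolayPt} (hi : x i = 4 ∨ x i = -4) : Type4 x := by
  rcases (min_iff x).1 ⟨hx, hn⟩ with h | h | h
  · exact h
  · exfalso
    obtain ⟨A, -, h2, h0, -⟩ := h
    by_cases hiA : i ∈ A
    · rcases h2 i hiA with h | h <;> omega
    · have := h0 i hiA; omega
  · exfalso
    have := type3_odd h i
    omega

theorem type2_or_type4_of_coord {x : GolayPt → ℤ} (hx : x ∈ leechLattice) (hn : sqNorm x = 32)
    {i : GolayPt} (hi : x i % 2 = 0) : Type4 x ∨ Type2 x := by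
  rcases (min_iff x).1 ⟨hx, hn⟩ with h | h | h
  · exact Or.inl h
  · exact Or.inr h
  · exfalso
    have := type3_odd h i
    omega

end Cfsg.Agent.Leech.Min
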