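import Cfsg.Agent.Leech.FrameTriplesOf
set_option linter.all false

/-!
Elements of `Co0` fixing `8 e_∞`, and the stabiliser of the standard triples: it is the
two-point stabiliser in `M24`, acting by coordinate permutations.
-/

set_option autoImplicit false
open Cfsg

namespace Cfsg.Agent.Leech.FrameStab

open Cfsg.Agent.SporadicStructure.LeechBase Cfsg.Agent.SporadicStructure.GolayEven
open Cfsg.Agent.Leech.FrameAux Cfsg.Agent.Leech.FrameTriplesOf

theorem e8_injective : Function.Injective e8 := by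
  intro i j h
  have h1 := congrArg (fun u : leechLattice => (u : GolayPt → ℤ) i) h
  simp only [coe_e8, Pi.single_eq_same] at h1
  by_contra hij
  rw [Pi.single_eq_of_ne hij] at h1
  exact absurd h1 (by norm_num)

/-- An element of `Co0` fixing `8 e_k` maps each `8 e_i` to some `± 8 e_j`. -/
theorem image_e8 (g : Co0) (k : GolayPt) (hg : g • e8 k = e8 k) (i : GolayPt) :
    ∃ (j : GolayPt) (s : ℤ), (s = 1 ∨ s = -1) ∧
      ((g • e8 i : leechLattice) : GolayPt → ℤ) = Pi.single j (8 * s) := by
  by_cases hik : i = k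
  · exact ⟨k, 1, Or.inl rfl, by rw [hik, hg, coe_e8]; norm_num⟩
  · let U : leechLattice := ⟨_, four_four_mem k i (-1) (Or.inr rfl)⟩
    have hU : (U : GolayPt → ℤ) = Pi.single k 4 + Pi.single i (4 * -1) := rfl
    have h1 : e8 i = e8 k - (U + U) := by
      apply Subtype.ext
      rw [AddSubgroup.coe_sub, AddSubgroup.coe_add, hU, coe_e8, coe_e8]
      funext p
      simp only [Pi.sub_apply, Pi.add_apply, Pi.single_apply]
      split_ifs <;> ring
    have hUn : sqNorm (U : GolayPt → ℤ) = 32 := by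
      rw [hU, sqNorm_add, sqNorm_single, sqNorm_single, dot_single_right,
        Pi.single_eq_of_ne hik]
      norm_num
    have h2 : ((g • U : leechLattice) : GolayPt → ℤ) k = 4 := by
      have h3 := co0_dot g U (e8 k)
      rw [hg, coe_e8, dot_single_right, dot_single_right, hU, Pi.add_apply, Pi.single_eq_same,
        Pi.single_eq_of_ne (Ne.symm hik)] at h3
      omega
    obtain ⟨j, s, -, hs, hx⟩ := shape_four (g • U).2 (by rw [co0_sqNorm, hUn]) h2
    refine ⟨j, -s, by rcases hs with rfl | rfl <;> simp, ?_⟩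
    rw [h1, co0_sub, co0_add, hg, AddSubgroup.coe_sub, AddSubgroup.coe_add, hx, coe_e8]
    funext p
    simp only [Pi.sub_apply, Pi.add_apply, Pi.single_apply]
    split_ifs <;> ring

/-- An element of `Co0` fixing `8 e_k` acts as a signed coordinate permutation. -/
theorem exists_signed_perm (g : Co0) (k : GolayPt) (hg : g • e8 k = e8 k) :
    ∃ (σ : Equiv.Perm GolayPt) (s : GolayPt → ℤ), (∀ i, s i = 1 ∨ s i = -1) ∧ σ k = k ∧ s k = 1 ∧
      (∀ i, ((g • e8 i : leechLattice) : GolayPt → ℤ) = Pi.single (σ i) (8 * s i)) ∧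
      ∀ (u : leechLattice) (i : GolayPt),
        ((g • u : leechLattice) : GolayPt → ℤ) (σ i) = s i * (u : GolayPt → ℤ) i := by
  choose J s hs hJ using image_e8 g k hg
  have hact : ∀ (u : leechLattice) (i : GolayPt),
      ((g • u : leechLattice) : GolayPt → ℤ) (J i) = s i * (u : GolayPt → ℤ) i := by
    intro u i
    have h1 := co0_dot g u (e8 i)
    rw [hJ i, coe_e8, dot_single_right, dot_single_right] at h1
    rcases hs i with h | h <;> rw [h] at h1 ⊢ <;> omega
  have hinj : Function.Injective J := by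
    intro i j hij
    by_contra hne
    have h1 := hact (e8 i) j
    rw [← hij, hJ i, Pi.single_eq_same, coe_e8, Pi.single_eq_of_ne (Ne.symm hne)] at h1
    rcases hs i with h | h <;> rw [h] at h1 <;> omega
  have hbij : Function.Bijective J := Finite.injective_iff_bijective.1 hinj
  have hk : J k = k ∧ s k = 1 := by
    have h1 := hJ k
    rw [hg, coe_e8] at h1
    have h2 := congrFun h1 k
    rw [Pi.single_eq_same, Pi.single_apply] at h2
    by_cases h3 : k = J k
    · rw [if_pos h3] at h2
      exact ⟨h3.symm, by omega⟩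
    · rw [if_neg h3] at h2; exact absurd h2 (by norm_num)
  exact ⟨Equiv.ofBijective J hbij, s, hs, hk.1, hk.2, hJ, hact⟩

/-- A coordinate permutation which is in `Co0` is in `M24`. -/
theorem mem_M24_of_action (g : Co0) (σ : Equiv.Perm GolayPt)
    (h : ∀ (u : leechLattice) (i : GolayPt),
      ((g • u : leechLattice) : GolayPt → ℤ) i = (u : GolayPt → ℤ) (σ.symm i)) : σ ∈ M24 := by
  rw [SporadicA.M24Mem.mem_M24_iff]
  intro w hw
  let z : GolayPt → ℤ := fun i => if w i = 0 then 0 else 1
  have hz : red z = w := by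
    funext i
    rw [red_apply]
    show (((if w i = 0 then 0 else 1 : ℤ)) : ZMod 2) = w i
    rcases zmod2_cases (w i) with h0 | h0 <;> rw [h0] <;> simp
  have hsum : (4 : ℤ) ∣ ∑ i, z i := by
    have h1 : ∑ i, z i = (support₂ w).card := by
      rw [Finset.card_eq_sum_ones, Nat.cast_sum, ← Finset.sum_subset (Finset.subset_univ (support₂ w))]
      · apply Finset.sum_congr rfl
        intro i hi
        rw [mem_support₂] at hi
        show (if w i = 0 then 0 else 1 : ℤ) = _
        rw [if_neg hi]; rfl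
      · intro i _ hi
        rw [mem_support₂, not_not] at hi
        show (if w i = 0 then 0 else 1 : ℤ) = _
        rw [if_pos hi]
    rw [h1]
    exact_mod_cast four_dvd_card hw
  let u : leechLattice := ⟨fun i => 2 * z i,
    mem_of_even_form (by rw [hz]; exact hw) hsum fun i => rfl⟩
  have hu : ∀ i, (u : GolayPt → ℤ) i = 2 * z i := fun i => rfl
  obtain ⟨z', hz', -, h'⟩ := even_form (g • u).2 (i := none) (by rw [h, hu]; exact dvd_mul_right _ _)
  have h1 : z' = fun i => z (σ.symm i) := by
    funext i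
    have h2 := h' i
    rw [h, hu] at h2
    omega
  have h2 : red z' = w ∘ σ.symm := by
    rw [h1]
    funext i
    exact congrFun hz (σ.symm i)
  rw [← h2]; exact hz'

/-- An element of `Co0` fixing `8 e_∞`, `8 e_0` and a vector `(r, t, 1^22)` is a coordinate
permutation in `M24`. -/
theorem perm_of_fix_e8 (g : Co0) (hg1 : g • e8 none = e8 none) (hg2 : g • e8 (some 0) = e8 (some 0))
    (c : leechLattice) (r t : ℤ) (hc : (c : GolayPt → ℤ) = vec3 r t 1) (hgc : g • c = c) :
    ∃ σ ∈ M24, σ none = none ∧ σ (some 0) = some 0 ∧ ∀ (u : leechLattice) (i : GolayPt),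
      ((g • u : leechLattice) : GolayPt → ℤ) i = (u : GolayPt → ℤ) (σ.symm i) := by
  obtain ⟨σ, s, hs, hσ, hsk, hJ, hact⟩ := exists_signed_perm g none hg1
  have h0 : σ (some 0) = some 0 ∧ s (some 0) = 1 := by
    have h1 := hJ (some 0)
    rw [hg2, coe_e8] at h1
    have h2 := congrFun h1 (some 0)
    rw [Pi.single_eq_same, Pi.single_apply] at h2
    by_cases h3 : some 0 = σ (some 0)
    · rw [if_pos h3] at h2
      exact ⟨h3.symm, by omega⟩
    · rw [if_neg h3] at h2; exact absurd h2 (by norm_num)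
  have hone : ∀ i, s i = 1 := by
    intro i
    by_cases h1 : i = none
    · rw [h1, hsk]
    · by_cases h2 : i = some 0
      · rw [h2, h0.2]
      · have h3 := hact c i
        have h4 : σ i ≠ none := by
          intro h; rw [← hσ] at h; exact h1 (σ.injective h)
        have h5 : σ i ≠ some 0 := by
          intro h; rw [← h0.1] at h; exact h2 (σ.injective h)
        rw [hgc, hc, vec3_other _ _ _ h4 h5, vec3_other _ _ _ h1 h2, mul_one] at h3
        exact h3.symm
  have haction : ∀ (u : leechLattice) (i : GolayPt),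
      ((g • u : leechLattice) : GolayPt → ℤ) i = (u : GolayPt → ℤ) (σ.symm i) := by
    intro u i
    have h1 := hact u (σ.symm i)
    rw [Equiv.apply_symm_apply, hone, one_mul] at h1
    exact h1
  exact ⟨σ, mem_M24_of_action g σ haction, hσ, h0.1, haction⟩

theorem e8_none_eq {a b : leechLattice} (ha : (a : GolayPt → ℤ) = vec3 4 4 0)
    (hb : (b : GolayPt → ℤ) = vec3 4 (-4) 0) : a + b = e8 none := by
  apply Subtype.ext
  rw [AddSubgroup.coe_add, ha, hb, coe_e8]
  symm
  funext p
  by_cases h1 : p = none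
  · rw [h1, Pi.single_eq_same, Pi.add_apply, vec3_none, vec3_none]; norm_num
  · by_cases h2 : p = some 0
    · rw [h2, Pi.single_eq_of_ne (by simp), Pi.add_apply, vec3_zero, vec3_zero]; norm_num
    · rw [Pi.single_eq_of_ne h1, Pi.add_apply, vec3_other _ _ _ h1 h2, vec3_other _ _ _ h1 h2]
      norm_num

theorem e8_zero_eq {a b : leechLattice} (ha : (a : GolayPt → ℤ) = vec3 4 4 0)
    (hb : (b : GolayPt → ℤ) = vec3 4 (-4) 0) : a - b = e8 (some 0) := by
  apply Subtype.ext
  rw [AddSubgroup.coe_sub, ha, hb, coe_e8]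
  symm
  funext p
  by_cases h1 : p = none
  · rw [h1, Pi.single_eq_of_ne (by simp), Pi.sub_apply, vec3_none, vec3_none]; norm_num
  · by_cases h2 : p = some 0
    · rw [h2, Pi.single_eq_same, Pi.sub_apply, vec3_zero, vec3_zero]; norm_num
    · rw [Pi.single_eq_of_ne h2, Pi.sub_apply, vec3_other _ _ _ h1 h2, vec3_other _ _ _ h1 h2]
      norm_num

/-- An element of `Co0` fixing `(4,4,0^22)`, `(4,-4,0^22)` and a vector `(r, t, 1^22)` is a
coordinate permutation in `M24`. -/
theorem perm_of_fix (g : Co0) (a b c : leechLattice) (ha : (a : GolayPt → ℤ) = vec3 4 4 0)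
    (hb : (b : GolayPt → ℤ) = vec3 4 (-4) 0) (hga : g • a = a) (hgb : g • b = b) (r t : ℤ)
    (hc : (c : GolayPt → ℤ) = vec3 r t 1) (hgc : g • c = c) :
    ∃ σ ∈ M24, σ none = none ∧ σ (some 0) = some 0 ∧ ∀ (u : leechLattice) (i : GolayPt),
      ((g • u : leechLattice) : GolayPt → ℤ) i = (u : GolayPt → ℤ) (σ.symm i) := by
  apply perm_of_fix_e8 g _ _ c r t hc hgc
  · rw [← e8_none_eq ha hb, co0_add, hga, hgb]
  · rw [← e8_zero_eq ha hb, co0_sub, hga, hgb]

/-! ### the embedding of `M24` -/

/-- The embedding of `M24` in `Co0` by coordinate permutations. -/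
noncomputable def permHom : M24 →* Co0 :=
  MonoidHom.mk' (fun σ => Classical.choose (exists_co0_of_perm σ.1 σ.2)) (by
    intro σ τ
    apply co0_ext
    intro v
    funext i
    rw [Classical.choose_spec (exists_co0_of_perm (σ * τ).1 (σ * τ).2), mul_smul,
      Classical.choose_spec (exists_co0_of_perm σ.1 σ.2),
      Classical.choose_spec (exists_co0_of_perm τ.1 τ.2)]
    rfl)

theorem permHom_apply (σ : M24) (u : leechLattice) (i : GolayPt) :
    ((permHom σ • u : leechLattice) : GolayPt → ℤ) i =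
      (u : GolayPt → ℤ) ((σ : Equiv.Perm GolayPt).symm i) :=
  Classical.choose_spec (exists_co0_of_perm σ.1 σ.2) u i

theorem permHom_injective : Function.Injective permHom := by
  rw [injective_iff_map_eq_one]
  intro σ hσ
  apply Subtype.ext
  apply Equiv.ext
  intro i
  have h1 := permHom_apply σ (e8 i) ((σ : Equiv.Perm GolayPt) i)
  rw [hσ, one_smul, Equiv.symm_apply_apply, coe_e8, Pi.single_eq_same, Pi.single_apply] at h1
  by_cases h2 : (σ : Equiv.Perm GolayPt) i = i
  · exact h2
  · rw [if_neg h2] at h1; exact absurd h1 (by norm_num)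

/-- A vector constant off the points `∞, 0` is fixed by the permutations fixing `∞, 0`. -/
theorem permHom_fix (σ : M24) (h1 : (σ : Equiv.Perm GolayPt) none = none)
    (h2 : (σ : Equiv.Perm GolayPt) (some 0) = some 0) (c : leechLattice) (r t s : ℤ)
    (hc : (c : GolayPt → ℤ) = vec3 r t s) : permHom σ • c = c := by
  apply Subtype.ext
  have h1' : (σ : Equiv.Perm GolayPt).symm none = none := by
    rw [Equiv.symm_apply_eq]; exact h1.symm
  have h2' : (σ : Equiv.Perm GolayPt).symm (some 0) = some 0 := by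
    rw [Equiv.symm_apply_eq]; exact h2.symm
  rw [hc]
  apply eq_vec3
  · rw [permHom_apply, h1', hc, vec3_none]
  · rw [permHom_apply, h2', hc, vec3_zero]
  · intro p hp hp'
    rw [permHom_apply, hc, vec3_other]
    · intro h; rw [Equiv.symm_apply_eq, h1] at h; exact hp h
    · intro h; rw [Equiv.symm_apply_eq, h2] at h; exact hp' h

/-- The two-point stabiliser in `M24`, as a subgroup of `Co0`. -/
theorem mem_map_permHom (g : Co0) :
    g ∈ (MulAction.stabilizer M24 (none : GolayPt) ⊓
      MulAction.stabilizer M24 (some 0 : GolayPt)).map permHom ↔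
    ∃ σ ∈ M24, σ none = none ∧ σ (some 0) = some 0 ∧ ∀ (u : leechLattice) (i : GolayPt),
      ((g • u : leechLattice) : GolayPt → ℤ) i = (u : GolayPt → ℤ) (σ.symm i) := by
  rw [Subgroup.mem_map]
  constructor
  · rintro ⟨σ, ⟨h1, h2⟩, rfl⟩
    exact ⟨σ.1, σ.2, h1, h2, permHom_apply σ⟩
  · rintro ⟨σ, hσ, h1, h2, h⟩
    refine ⟨⟨σ, hσ⟩, ⟨h1, h2⟩, ?_⟩
    apply co0_ext
    intro v
    funext i
    rw [permHom_apply, h]

/-- The stabiliser of the standard McLaughlin triple. -/
theorem std_mcl_stab (v w x : leechLattice) (hv : (v : GolayPt → ℤ) = vec3 4 4 0)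
    (hw : (w : GolayPt → ℤ) = vec3 1 (-3) 1) (hx : (x : GolayPt → ℤ) = vec3 4 (-4) 0) :
    MulAction.stabilizer Co0 v ⊓ MulAction.stabilizer Co0 w ⊓ MulAction.stabilizer Co0 x =
      (MulAction.stabilizer M24 (none : GolayPt) ⊓
        MulAction.stabilizer M24 (some 0 : GolayPt)).map permHom := by
  ext g
  rw [mem_map_permHom]
  constructor
  · rintro ⟨⟨h1, h2⟩, h3⟩
    exact perm_of_fix g v x w hv hx h1 h3 1 (-3) hw h2
  · intro h
    rw [← mem_map_permHom, Subgroup.mem_map] at h
    obtain ⟨σ, ⟨h1, h2⟩, rfl⟩ := h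
    exact ⟨⟨permHom_fix σ h1 h2 v _ _ _ hv, permHom_fix σ h1 h2 w _ _ _ hw⟩,
      permHom_fix σ h1 h2 x _ _ _ hx⟩

/-- The stabiliser of the standard Higman-Sims triple. -/
theorem std_hs_stab (v w x : leechLattice) (hv : (v : GolayPt → ℤ) = vec3 5 1 1)
    (hw : (w : GolayPt → ℤ) = vec3 (-1) (-5) (-1)) (hx : (x : GolayPt → ℤ) = vec3 4 4 0) :
    MulAction.stabilizer Co0 v ⊓ MulAction.stabilizer Co0 w ⊓ MulAction.stabilizer Co0 x =
      (MulAction.stabilizer M24 (none : GolayPt) ⊓
        MulAction.stabilizer M24 (some 0 : GolayPt)).map permHom := by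
  have hvw : ((v + w : leechLattice) : GolayPt → ℤ) = vec3 4 (-4) 0 := by
    rw [AddSubgroup.coe_add, hv, hw]
    apply eq_vec3
    · rw [Pi.add_apply, vec3_none, vec3_none]; norm_num
    · rw [Pi.add_apply, vec3_zero, vec3_zero]; norm_num
    · intro p h1 h2
      rw [Pi.add_apply, vec3_other _ _ _ h1 h2, vec3_other _ _ _ h1 h2]; norm_num
  ext g
  rw [mem_map_permHom]
  constructor
  · rintro ⟨⟨h1, h2⟩, h3⟩
    have h4 : g • (v + w) = v + w := by
      rw [co0_add]
      exact congrArg₂ (· + ·) h1 h2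
    exact perm_of_fix g x (v + w) v hx hvw h3 h4 5 1 hv h1
  · intro h
    rw [← mem_map_permHom, Subgroup.mem_map] at h
    obtain ⟨σ, ⟨h1, h2⟩, rfl⟩ := h
    exact ⟨⟨permHom_fix σ h1 h2 v _ _ _ hv, permHom_fix σ h1 h2 w _ _ _ hw⟩,
      permHom_fix σ h1 h2 x _ _ _ hx⟩

/-- Stabilisers of a triple of vectors and of its image under an element of `Co0` are isomorphic. -/
theorem nonempty_equiv_stab (g : Co0) (v w x : leechLattice) :
    Nonempty (↥(MulAction.stabilizer Co0 v ⊓ MulAction.stabilizer Co0 w ⊓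
        MulAction.stabilizer Co0 x) ≃*
      ↥(MulAction.stabilizer Co0 (g • v) ⊓ MulAction.stabilizer Co0 (g • w) ⊓
        MulAction.stabilizer Co0 (g • x))) := by
  have h : MulAction.stabilizer Co0 (g • v) ⊓ MulAction.stabilizer Co0 (g • w) ⊓
        MulAction.stabilizer Co0 (g • x) =
      (MulAction.stabilizer Co0 v ⊓ MulAction.stabilizer Co0 w ⊓
        MulAction.stabilizer Co0 x).map (MulAut.conj g).toMonoidHom := by
    rw [MulAction.stabilizer_smul_eq_stabilizer_map_conj,
      MulAction.stabilizer_smul_eq_stabilizer_map_conj,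
      MulAction.stabilizer_smul_eq_stabilizer_map_conj,
      ← Subgroup.map_inf_eq _ _ _ (MulAut.conj g).injective,
      ← Subgroup.map_inf_eq _ _ _ (MulAut.conj g).injective]
  rw [h]
  exact ⟨Subgroup.equivMapOfInjective _ _ (MulAut.conj g).injective⟩

/-- Triple stabilisers of McLaughlin triples are two-point stabilisers of `M24`. -/
theorem mcl_triple_stab_of (hT : Trans64) (v w x : leechLattice)
    (hv : sqNorm (v : GolayPt → ℤ) = 32) (hw : sqNorm (w : GolayPt → ℤ) = 32)
    (hx : sqNorm (x : GolayPt → ℤ) = 32)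
    (hvw : dotInt (v : GolayPt → ℤ) (w : GolayPt → ℤ) = -8)
    (hvx : dotInt (v : GolayPt → ℤ) (x : GolayPt → ℤ) = 0)
    (hwx : dotInt (w : GolayPt → ℤ) (x : GolayPt → ℤ) = 16) :
    Nonempty (↥(MulAction.stabilizer Co0 v ⊓ MulAction.stabilizer Co0 w ⊓
        MulAction.stabilizer Co0 x) ≃*
      ↥(MulAction.stabilizer M24 (none : GolayPt) ⊓
        MulAction.stabilizer M24 (some 0 : GolayPt))) := by
  obtain ⟨g, h1, h2, h3⟩ := mcl_triple_of hT v w x hv hw hx hvw hvx hwx
  obtain ⟨e⟩ := nonempty_equiv_stab g v w x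
  rw [std_mcl_stab _ _ _ h1 h2 h3] at e
  exact ⟨e.trans (Subgroup.equivMapOfInjective _ _ permHom_injective).symm⟩

/-- Triple stabilisers of Higman-Sims triples are two-point stabilisers of `M24`. -/
theorem hs_triple_stab_of (hT : Trans64) (v w x : leechLattice)
    (hv : sqNorm (v : GolayPt → ℤ) = 48) (hw : sqNorm (w : GolayPt → ℤ) = 48)
    (hvw : dotInt (v : GolayPt → ℤ) (w : GolayPt → ℤ) = -32)
    (hx : sqNorm (x : GolayPt → ℤ) = 32)
    (hvx : dotInt (v : GolayPt → ℤ) (x : GolayPt → ℤ) = 24)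
    (hwx : dotInt (w : GolayPt → ℤ) (x : GolayPt → ℤ) = -24) :
    Nonempty (↥(MulAction.stabilizer Co0 v ⊓ MulAction.stabilizer Co0 w ⊓
        MulAction.stabilizer Co0 x) ≃*
      ↥(MulAction.stabilizer M24 (none : GolayPt) ⊓
        MulAction.stabilizer M24 (some 0 : GolayPt))) := by
  obtain ⟨g, h1, h2, h3⟩ := hs_triple_of hT v w x hv hw hvw hx hvx hwx
  obtain ⟨e⟩ := nonempty_equiv_stab g v w x
  rw [std_hs_stab _ _ _ h1 h2 h3] at e
  exact ⟨e.trans (Subgroup.equivMapOfInjective _ _ permHom_injective).symm⟩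

end Cfsg.Agent.Leech.FrameStab
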